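import Cfsg.Agent.SP.NTh.Three.Cube
import Cfsg.Agent.SP.NTh.Three.CertCk
import Cfsg.Agent.SP.NTh.CentB

/-! # S5755, row `Th`: every elementary abelian 3-subgroup is conjugate to a subgroup of `U` or `Vs` (helper23) -/

set_option autoImplicit false
set_option synthInstance.maxHeartbeats 400000
set_option synthInstance.maxSize 2000

namespace Cfsg.Agent.SP.NTh.Three

open Subgroup Cfsg.Agent.H777.Th3 Cfsg.Agent.H777.Th3.Dat Cfsg.Agent.H502.TO Cfsg.Agent.SP.NTh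

/-- elementary abelian of exponent three -/
structure EA (V : Subgroup Th) : Prop where
  pow : ∀ v ∈ V, v ^ 3 = 1
  comm : ∀ v ∈ V, ∀ w ∈ V, v * w = w * v

theorem cj_mem {V : Subgroup Th} {v : Th} (hv : v ∈ V) (g : Th) : g⁻¹ * v * g ∈ cj V g := by
  rw [mem_cj]; simpa [mul_assoc] using hv

theorem EA.cj {V : Subgroup Th} (h : EA V) (g : Th) : EA (cj V g) := by
  refine ⟨fun v hv => ?_, fun v hv w hw => ?_⟩
  · have := h.pow _ (mem_cj.1 hv)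
    rwa [conj_pow, mul_inv_eq_one, mul_eq_left] at this
  · have := h.comm _ (mem_cj.1 hv) _ (mem_cj.1 hw)
    calc v * w = g⁻¹ * (g * v * g⁻¹ * (g * w * g⁻¹)) * g := by group
      _ = w * v := by rw [this]; group

theorem EA.isPGroup {V : Subgroup Th} (h : EA V) : IsPGroup 3 V :=
  fun v => ⟨1, Subtype.ext (by simpa using h.pow v v.2)⟩

/-- conjugate to a subgroup of `U` or of `Vs` -/
def Loc (V : Subgroup Th) : Prop := ∃ h : Th, (∀ v ∈ V, h⁻¹ * v * h ∈ thDat.U) ∨ ∀ v ∈ V, h⁻¹ * v * h ∈ thDat.Vs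

theorem Loc.of_cj {V : Subgroup Th} {g : Th} (h : Loc (cj V g)) : Loc V := by
  have e : ∀ k v : Th, (g * k)⁻¹ * v * (g * k) = k⁻¹ * (g⁻¹ * v * g) * k := fun k v => by group
  obtain ⟨k, h | h⟩ := h
  · exact ⟨g * k, Or.inl fun v hv => by rw [e]; exact h _ (cj_mem hv g)⟩
  · exact ⟨g * k, Or.inr fun v hv => by rw [e]; exact h _ (cj_mem hv g)⟩

theorem cj1 {m x w : Th} (h : x * m = m * w) : m⁻¹ * x * m = w := by
  rw [mul_assoc, h, inv_mul_cancel_left]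

/-- action of `m2` on `U` -/
def M2 (e : V5) : V5 := (e.2.1, 2 * e.1, 2 * e.2.2.1, 2 * e.2.2.2.1, e.2.2.2.2)

theorem act_m2 : thDat.Act em2 M2 := by
  refine act_of (fun x y => ?_) ?_ ?_ ?_ ?_ ?_
  · simp only [M2, Prod.fst_add, Prod.snd_add, Prod.mk_add_mk, mul_add]
  · rw [m2_u1, show M2 (1, 0, 0, 0, 0) = (0, 2, 0, 0, 0) by decide]; simp [uu, val_two]
  · rw [m2_u2, show M2 (0, 1, 0, 0, 0) = (1, 0, 0, 0, 0) by decide, uu_1]
  · rw [m2_u3, show M2 (0, 0, 1, 0, 0) = (0, 0, 2, 0, 0) by decide]; simp [uu, val_two]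
  · rw [m2_u4, show M2 (0, 0, 0, 1, 0) = (0, 0, 0, 2, 0) by decide]; simp [uu, val_two]
  · rw [m2_u5, show M2 (0, 0, 0, 0, 1) = (0, 0, 0, 0, 1) by decide, uu_5]

theorem m2_U (e : V5) : em2 * thDat.uu e * em2⁻¹ ∈ thDat.U := by
  have h : ∀ e : V5, M2 (M2 (M2 (M2 e))) = e := by decide +kernel
  have := act_m2 (M2 (M2 (M2 e)))
  rw [h] at this
  rw [← this]
  simpa [mul_assoc] using thDat.uu_mem _

theorem m1_inv : em1⁻¹ = em1 := inv_eq_of_mul_eq_one_right m1_sq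

theorem m1_m1 (x : Th) : em1⁻¹ * (em1⁻¹ * x * em1) * em1 = x := by
  rw [m1_inv, ← mul_assoc, ← mul_assoc, m1_sq, one_mul, mul_assoc, m1_sq, mul_one]

theorem m1_u2' : em1⁻¹ * thDat.u2 * em1 = thDat.uu (0, 2, 2, 1, 2) := by
  rw [cj1 (w := thDat.u2 ^ 2 * thDat.u3 ^ 2 * thDat.u4 * thDat.u5 ^ 2) (by rw [m1_u2]; group)]
  simp [uu, val_two, ZMod.val_one]

theorem m1_beta : em1⁻¹ * thDat.uu (0, 2, 2, 1, 2) * em1 = thDat.u2 := by rw [← m1_u2', m1_m1]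

theorem m1_u5' : em1⁻¹ * thDat.u5 * em1 = thDat.uu (1, 1, 2, 1, 0) * thDat.r1 := by
  rw [cj1 (w := thDat.u1 * thDat.u2 * thDat.u3 ^ 2 * thDat.u4 * thDat.r1) (by rw [m1_u5]; group)]
  simp [uu, val_two, ZMod.val_one]

theorem m1_U {f : V5} (hf : f.2.2.1 = f.2.2.2.2) : em1⁻¹ * thDat.uu f * em1 ∈ thDat.U := by
  have hd : ∀ f : V5, f.2.2.1 = f.2.2.2.2 → f = f.1.val • ((1, 0, 0, 0, 0) : V5) +
      (f.2.1 + 2 * f.2.2.1).val • ((0, 1, 0, 0, 0) : V5) + (2 * f.2.2.1).val • ((0, 2, 2, 1, 2) : V5) +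
      (f.2.2.2.1 + f.2.2.1).val • ((0, 0, 0, 1, 0) : V5) := by decide +kernel
  have key : ∀ x : Th, em1⁻¹ * x * em1 ∈ thDat.U ↔ x ∈ cj thDat.U em1⁻¹ := fun x => by rw [mem_cj, inv_inv]
  rw [key, hd f hf, uu_add, uu_add, uu_add, uu_nsmul, uu_nsmul, uu_nsmul, uu_nsmul, uu_1, uu_2, uu_4]
  refine mul_mem (mul_mem (mul_mem (pow_mem ?_ _) (pow_mem ?_ _)) (pow_mem ?_ _)) (pow_mem ?_ _) <;> rw [← key]
  · rw [cj1 m1_u1]; exact pow_mem thDat.u1_mem _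
  · rw [m1_u2']; exact thDat.uu_mem _
  · rw [m1_beta]; exact thDat.u2_mem
  · rw [cj1 m1_u4]; exact thDat.u4_mem

/-- the cosets `U r1` -/
theorem rU (k : ZMod 3) : ∀ e : V5, e.2.2.1 - e.2.2.2.2 = k → ∃ h : Th, h⁻¹ * (thDat.uu e * thDat.r1) * h ∈ thDat.U ∧
    ∀ f : V5, f.2.2.1 = f.2.2.2.2 → h⁻¹ * thDat.uu f * h ∈ thDat.U := by
  let C : ZMod 3 → Prop := fun k => ∀ e : V5, e.2.2.1 - e.2.2.2.2 = k → ∃ h : Th,
    h⁻¹ * (thDat.uu e * thDat.r1) * h ∈ thDat.U ∧ ∀ f : V5, f.2.2.1 = f.2.2.2.2 → h⁻¹ * thDat.uu f * h ∈ thDat.U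
  have base : C 2 := by
    intro e he
    refine ⟨em1, ?_, fun f hf => m1_U hf⟩
    have e1 : thDat.uu e * thDat.r1 = thDat.uu (e - (1, 1, 2, 1, 0)) * (em1⁻¹ * thDat.u5 * em1) := by
      rw [m1_u5', ← mul_assoc, ← uu_add, sub_add_cancel]
    have e2 : ∀ x y : Th, em1⁻¹ * (x * y) * em1 = em1⁻¹ * x * em1 * (em1⁻¹ * y * em1) := fun x y => by group
    rw [e1, e2, m1_m1]
    refine mul_mem (m1_U ?_) thDat.u5_mem
    change e.2.2.1 - 2 = e.2.2.2.2 - 0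
    rw [← he]; ring
  have step : ∀ k, C (k + 2) → C k := by
    intro k hk e he
    obtain ⟨f, hf, hf'⟩ := conj_uu_Tg (D := thDat) thDat.r1_Tg (2, 0, 2, 1, 0)
    have e1 : thDat.v1 * thDat.r1 * thDat.v1⁻¹ = thDat.uu f * thDat.r1 := by
      rw [← hf', thDat.j_v1_r1]
      simp [uu, val_two, ZMod.val_one, mul_assoc]
    have a1 : thDat.Act thDat.v1 (Tq (1, 0, 0, 0)) := act_v1
    obtain ⟨h, h1, h2⟩ := hk (Tq (-(1, 0, 0, 0)) e + f) (by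
      change e.2.2.1 + f.2.2.1 - (e.2.2.2.2 + f.2.2.2.2) = k + 2
      rw [hf, ← he]; ring)
    refine ⟨thDat.v1⁻¹ * h, ?_, fun g hg => ?_⟩
    · have : (thDat.v1⁻¹ * h)⁻¹ * (thDat.uu e * thDat.r1) * (thDat.v1⁻¹ * h) =
          h⁻¹ * (thDat.v1 * thDat.uu e * thDat.v1⁻¹ * (thDat.v1 * thDat.r1 * thDat.v1⁻¹)) * h := by group
      rwa [this, lc a1, e1, ← mul_assoc (thDat.uu _), ← uu_add]
    · have : (thDat.v1⁻¹ * h)⁻¹ * thDat.uu g * (thDat.v1⁻¹ * h) = h⁻¹ * (thDat.v1 * thDat.uu g * thDat.v1⁻¹) * h := by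
        group
      rw [this, lc a1]
      exact h2 _ hg
  have h3 : ∀ k : ZMod 3, k = 2 ∨ k = 0 ∨ k = 1 := by decide
  rcases h3 k with rfl | rfl | rfl
  · exact base
  · exact step 0 base
  · exact step 1 (step 0 base)

theorem locR {V : Subgroup Th} (h : EA V) (hT : V ≤ thDat.Tg) {x : Th} (hx : x ∈ V) (hq : thDat.qT x = (0, 0, 1, 0)) :
    Loc V := by
  have h1 := th_u1_ne
  have hr : thDat.qT thDat.r1 = (0, 0, 1, 0) := by
    have := qT_w4 h1 0 0 0 1 0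
    rwa [uu_zero, one_mul, w4_3] at this
  obtain ⟨e, he⟩ := form_of_comm h1 thDat.r1_Tg (hT hx) (n := 1) (by rw [hq, hr, one_smul])
  rw [pow_one] at he
  obtain ⟨k, hk1, hk2⟩ := rU _ e rfl
  refine ⟨k, Or.inl fun v hv => ?_⟩
  have hB := B_eq_zero h1 (hT hx) (hT hv) (h.comm x hx v hv)
  rw [hq] at hB
  obtain ⟨i, hi⟩ := dec_Br _ hB
  obtain ⟨f, hf⟩ := form_of_comm h1 (hT hx) (hT hv) (n := i) (by rw [hi, hq])
  have hfV : thDat.uu f ∈ V := by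
    rw [show thDat.uu f = v * (x ^ (i : ℕ))⁻¹ by rw [hf]; group]
    exact mul_mem hv (inv_mem (pow_mem hx _))
  have hL := (fix_iff h1 (hT hx) f).1 (h.comm x hx _ hfV)
  rw [hq] at hL
  have hd : ∀ y : V3, L (0, 0, 1, 0) y = 0 → y.1 = y.2.2 := by decide +kernel
  rw [hf, show k⁻¹ * (thDat.uu f * x ^ (i : ℕ)) * k = k⁻¹ * thDat.uu f * k * (k⁻¹ * x * k) ^ (i : ℕ) by
    rw [← conj_pow']; group]
  exact mul_mem (hk2 f (hd _ hL)) (pow_mem (he ▸ hk1) _)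

theorem locS {V : Subgroup Th} (h : EA V) (hT : V ≤ thDat.Tg) {x : Th} (hx : x ∈ V) (hq : thDat.qT x = (2, 0, 2, 1)) :
    Loc V := by
  have h1 := th_u1_ne
  have hρ : em2⁻¹ * thDat.r1 * em2 = thDat.uu (2, 1, 1, 1, 0) * thDat.w4 2 0 2 1 := by
    rw [cj1 (w := thDat.u1 ^ 2 * thDat.u2 * thDat.u3 * thDat.u4 * thDat.v1 ^ 2 * thDat.r1 ^ 2 * thDat.r2)
      (by rw [m2_r1]; group)]
    simp [uu, w4, val_two, ZMod.val_one, mul_assoc]
  have hρT : em2⁻¹ * thDat.r1 * em2 ∈ thDat.Tg := by rw [hρ]; exact (thDat.mem_Tg).2 ⟨_, _, _, _, _, rfl⟩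
  have hρq : thDat.qT (em2⁻¹ * thDat.r1 * em2) = (2, 0, 2, 1) := by rw [hρ, qT_w4 h1]
  have key : ∀ v ∈ thDat.Tg, ∀ n : ℕ, thDat.qT v = n • ((2, 0, 2, 1) : Q4) → ∃ u ∈ thDat.U,
      em2 * v * em2⁻¹ = u * thDat.r1 ^ n := by
    intro v hv n hn
    obtain ⟨f, hf⟩ := form_of_comm h1 hρT hv (n := n) (by rw [hn, hρq])
    exact ⟨_, m2_U f, by rw [hf, ← conj_pow']; group⟩
  refine Loc.of_cj (g := em2⁻¹) (locR (h.cj _) (fun y hy => ?_) (cj_mem hx _) ?_)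
  · have hv := mem_cj.1 hy
    have hB := B_eq_zero h1 (hT hx) (hT hv) (h.comm x hx _ hv)
    rw [hq] at hB
    obtain ⟨i, hi⟩ := dec_Bs _ hB
    obtain ⟨u, hu, e⟩ := key _ (hT hv) i hi
    rw [show y = u * thDat.r1 ^ (i : ℕ) by rw [← e]; group]
    exact mul_mem (thDat.U_le_Tg hu) (pow_mem thDat.r1_Tg _)
  · obtain ⟨u, hu, e⟩ := key _ (hT hx) 1 (by rw [hq, one_smul])
    obtain ⟨f, rfl⟩ := (thDat.mem_U).1 hu
    rw [inv_inv, e, pow_one, ← w4_3, qT_w4 h1]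

theorem locN {V : Subgroup Th} (h : EA V) (hN : V ≤ thDat.N) : Loc V := by
  by_cases hU : V ≤ thDat.U
  · exact ⟨1, Or.inl fun v hv => by simpa using hU hv⟩
  obtain ⟨x, hx, hxU⟩ := SetLike.not_le_iff_exists.1 hU
  obtain ⟨t, -, ht⟩ := toVs th_u1_ne (hN hx) hxU
  exact ⟨t, Or.inr fun v hv => ht v (hN hv) (h.comm x hx v hv)⟩

theorem locT {V : Subgroup Th} (h : EA V) (hT : V ≤ thDat.Tg) : Loc V := by
  have h1 := th_u1_ne
  by_cases hU : V ≤ thDat.U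
  · exact locN h (hU.trans thDat.U_le_N)
  obtain ⟨x, hx, hxU⟩ := SetLike.not_le_iff_exists.1 hU
  have hq0 : thDat.qT x ≠ 0 := fun e => hxU ((mem_U_iff_qT h1 (hT hx)).2 e)
  obtain ⟨i, hi⟩ := dec_cb _ (cb_eq_zero h1 (hT hx) (h.pow x hx))
  have hT' : cj V (thDat.x0 ^ (i : ℕ)) ≤ thDat.Tg := fun y hy => by
    have := (conj_x0_pow h1 i (hT (mem_cj.1 hy))).1
    simpa [mul_assoc] using this
  have hx' := cj_mem hx (thDat.x0 ^ (i : ℕ))
  have hq := (conj_x0_pow h1 i (hT hx)).2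
  have h' := h.cj (thDat.x0 ^ (i : ℕ))
  refine Loc.of_cj (g := thDat.x0 ^ (i : ℕ)) ?_
  rw [← hq] at hi
  rcases hi with hi | hi | hi | hi | hi
  · refine locN h' fun y hy => mem_N_of_q h1 (hT' hy) (dec_BN _ _ hi (fun e => hq0 (dec_sg0 i _ (hq ▸ e)))
      (B_eq_zero h1 (hT' hx') (hT' hy) (h'.comm _ hx' _ hy)))
  · exact locR h' hT' hx' hi
  · exact locR h' hT' (inv_mem hx') (by rw [qT_inv h1 (hT' hx'), hi])
  · exact locS h' hT' hx' hi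
  · exact locS h' hT' (inv_mem hx') (by rw [qT_inv h1 (hT' hx'), hi])

/-- the special lines through `u1` -/
theorem toW (x y : ZMod 3) : ∃ h : Th, h⁻¹ * thDat.u1 * h = thDat.u1 ^ 2 ∧ h⁻¹ * thDat.uu (x, y, 2, 1, 2) * h = thDat.u2 := by
  obtain ⟨a, b, hab⟩ := dec_T x y
  have e : ∀ s k v : Th, (s * k)⁻¹ * v * (s * k) = k⁻¹ * (s⁻¹ * v * s) * k := fun s k v => by group
  refine ⟨thDat.w4 a b 0 0 * em1, ?_, ?_⟩
  · rw [e, conj_u1 (thDat.Tg_le_Sg (w4_Tg a b 0 0)), cj1 m1_u1]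
  · rw [e, act_w4 a b 0 0, hab, m1_beta]

/-- the centraliser of `W` -/
def CW : Subgroup Th := centralizer {thDat.u1} ⊓ centralizer {thDat.u2}

theorem mem_CW {x : Th} : x ∈ CW ↔ x * thDat.u1 = thDat.u1 * x ∧ x * thDat.u2 = thDat.u2 * x := by
  simp only [CW, mem_inf, mem_centralizer_singleton_iff]

theorem comm_u1 {x : Th} (hx : x ∈ thDat.Sg) : x * thDat.u1 = thDat.u1 * x := by
  conv_lhs => rw [← conj_u1 hx]
  group

theorem Tg_le_CW : thDat.Tg ≤ CW := fun x hx => mem_CW.2 ⟨comm_u1 (thDat.Tg_le_Sg hx), by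
  conv_lhs => rw [← (mem_Tg_iff th_u1_ne (thDat.Tg_le_Sg hx)).1 hx]
  group⟩

theorem dec_smul : ∀ i j : ZMod 3, i = 0 ∨ ∃ n : Fin 3, j = (n : ℕ) • i := by decide

theorem not_dvd_CW : ¬ 3 ^ (9 + 1) ∣ Nat.card CW := by
  haveI := finTh
  haveI : Fact (Nat.Prime 3) := ⟨Nat.prime_three⟩
  have h1 := th_u1_ne
  intro hd
  obtain ⟨K, hTK, hK, hc⟩ := exists_succ Tg_le_CW (card_Tg h1) hd
  obtain ⟨g, hg⟩ := exists_conj (R := K) (IsPGroup.of_card hc)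
  have hiff := conj_iff (H := K) (K := thDat.Sg) (by rw [hc, card_Sg h1]) (g := g⁻¹) (by simpa using hg)
  have key : ∀ z ∈ K, (∀ k ∈ K, k * z = z * k) → ∃ i : ZMod 3, g * z * g⁻¹ = thDat.u1 ^ i.val := by
    intro z hz hzc
    refine center_eq h1 (hg z hz) fun s hs => ?_
    have := hzc (g⁻¹ * s * g) ((hiff _).2 (by simpa [mul_assoc] using hs))
    calc g * z * g⁻¹ * s = g * (z * (g⁻¹ * s * g)) * g⁻¹ := by group
      _ = _ := by rw [← this]; group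
  obtain ⟨i, hi⟩ := key _ (hTK (thDat.U_le_Tg thDat.u1_mem)) fun k hk => (mem_CW.1 (hK hk)).1
  obtain ⟨j, hj⟩ := key _ (hTK (thDat.U_le_Tg thDat.u2_mem)) fun k hk => (mem_CW.1 (hK hk)).2
  have hu : ∀ k : ZMod 3, thDat.u1 ^ k.val = thDat.uu (k, 0, 0, 0, 0) := fun k => by simp [uu]
  rcases dec_smul i j with rfl | ⟨n, rfl⟩
  · exact h1 (by simpa using hi)
  · have e : thDat.uu ((n : ℕ) • (1, 0, 0, 0, 0)) = thDat.uu (0, 1, 0, 0, 0) := by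
      apply (MulAut.conj g).injective
      rw [uu_nsmul, uu_1, uu_2, map_pow, MulAut.conj_apply, MulAut.conj_apply, hi, hj, hu, hu, ← uu_nsmul]
      simp
    have := congrArg (·.2.1) (uu_injective h1 e)
    simp at this

theorem loc_CW {V : Subgroup Th} (h : EA V) (hV : V ≤ CW) : Loc V := by
  haveI := finTh
  haveI : Fact (Nat.Prime 3) := ⟨Nat.prime_three⟩
  obtain ⟨l, -, hl⟩ := sylow_conj hV Tg_le_CW h.isPGroup (card_Tg th_u1_ne) not_dvd_CW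
  refine Loc.of_cj (g := l) (locT (h.cj l) fun y hy => ?_)
  simpa [mul_assoc] using hl _ (mem_cj.1 hy)

theorem dec_fix : ∀ a b c d f : ZMod 3, f ≠ 0 → Aq a b c d f (Aq a b c d f (Aq a b c d f (0, 0, 1, 0, 0))) = (0, 0, 1, 0, 0) →
    ∃ x y : ZMod 3, Aq a b c d f (x, y, 2, 1, 2) = (x, y, 2, 1, 2) := by decide +kernel

theorem locS_g {V : Subgroup Th} (h : EA V) (hS : V ≤ thDat.Sg) : Loc V := by
  have h1 := th_u1_ne
  by_cases hT : V ≤ thDat.Tg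
  · exact locT h hT
  obtain ⟨y, hy, hyT⟩ := SetLike.not_le_iff_exists.1 hT
  obtain ⟨a, b, c, d, f, ha⟩ := act_of_mem_Sg (hS hy)
  have hf : f ≠ 0 := fun e => hyT ((mem_Tg_iff_fS h1 (hS hy)).2 ((fS_eq h1 (hS hy) ha).trans e))
  have h3 := act_unique h1 ((ha.mul ha).mul ha) (by
    rw [show y * y * y = y ^ 3 by simp only [pow_succ, pow_zero, one_mul], h.pow y hy]; exact act_one) (0, 0, 1, 0, 0)
  obtain ⟨p, q, hpq⟩ := dec_fix a b c d f hf h3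
  have hyβ : y * thDat.uu (p, q, 2, 1, 2) = thDat.uu (p, q, 2, 1, 2) * y := by
    have := ha (p, q, 2, 1, 2)
    rw [hpq] at this
    conv_lhs => rw [← this]
    group
  have hTβ : ∀ t ∈ V, t ∈ thDat.Tg → t * thDat.uu (p, q, 2, 1, 2) = thDat.uu (p, q, 2, 1, 2) * t := by
    intro t ht htT
    obtain ⟨e1, e2⟩ := qT_of_comm h1 (hS hy) hyT htT (by rw [h.comm y hy t ht]; simp [thDat.U.one_mem])
    rw [fix_iff h1 htT]
    have hd : ∀ q : Q4, q.1 = 0 → q.2.1 = 0 → L q (2, 1, 2) = 0 := by decide +kernel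
    exact hd _ e1 e2
  have hβ : ∀ v ∈ V, v * thDat.uu (p, q, 2, 1, 2) = thDat.uu (p, q, 2, 1, 2) * v := by
    intro v hv
    have hd : ∀ i j : ZMod 3, j ≠ 0 → i = 0 ∨ i + j = 0 ∨ i + j + j = 0 := by decide
    have hj : thDat.fS y ≠ 0 := fun e => hyT ((mem_Tg_iff_fS h1 (hS hy)).2 e)
    have cy : Commute y (thDat.uu (p, q, 2, 1, 2)) := hyβ
    rcases hd (thDat.fS v) _ hj with e | e | e
    · exact hTβ v hv ((mem_Tg_iff_fS h1 (hS hv)).2 e)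
    · have : Commute (v * y) _ := hTβ _ (mul_mem hv hy) ((mem_Tg_iff_fS h1 (hS (mul_mem hv hy))).2
        (by rw [fS_mul h1 (hS hv) (hS hy), e]))
      simpa using (this.mul_left cy.inv_left).eq
    · have : Commute (v * y * y) _ := hTβ _ (mul_mem (mul_mem hv hy) hy)
        ((mem_Tg_iff_fS h1 (hS (mul_mem (mul_mem hv hy) hy))).2
        (by rw [fS_mul h1 (hS (mul_mem hv hy)) (hS hy), fS_mul h1 (hS hv) (hS hy), e]))
      simpa using ((this.mul_left cy.inv_left).mul_left cy.inv_left).eq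
  obtain ⟨k, hk1, hk2⟩ := toW p q
  refine Loc.of_cj (g := k) (loc_CW (h.cj k) fun z hz => mem_CW.2 ⟨?_, ?_⟩)
  · have c1 : Commute (k * z * k⁻¹) thDat.u1 := comm_u1 (hS (mem_cj.1 hz))
    have c2 : Commute z (thDat.u1 ^ 2) := by
      rw [← hk1]
      calc z * (k⁻¹ * thDat.u1 * k) = k⁻¹ * (k * z * k⁻¹ * thDat.u1) * k := by group
        _ = _ := by rw [c1.eq]; group
    have := (c2.pow_right 2).eq
    rwa [← pow_mul, show 2 * 2 = 3 + 1 from rfl, pow_succ, thDat.c1, one_mul] at this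
  · rw [← hk2]
    calc z * (k⁻¹ * thDat.uu (p, q, 2, 1, 2) * k) = k⁻¹ * (k * z * k⁻¹ * thDat.uu (p, q, 2, 1, 2)) * k := by group
      _ = _ := by rw [hβ _ (mem_cj.1 hz)]; group

/-- **Every elementary abelian 3-subgroup is conjugate to a subgroup of `U` or of `Vs`.** -/
theorem EA.loc {V : Subgroup Th} (h : EA V) : Loc V := by
  obtain ⟨g, hg⟩ := exists_conj h.isPGroup
  refine Loc.of_cj (g := g⁻¹) (locS_g (h.cj _) fun y hy => ?_)
  simpa [mul_assoc] using hg _ (mem_cj.1 hy)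

end Cfsg.Agent.SP.NTh.Three
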