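import Cfsg.Agent.SP.NTh.Three.UE

/-! # S5755, row `Th`: the classes in `U` and `Vs`; the normaliser of `Vs` (helper23) -/

set_option autoImplicit false
set_option synthInstance.maxHeartbeats 400000
set_option synthInstance.maxSize 2000

namespace Cfsg.Agent.SP.NTh.Three

open Subgroup Cfsg.Agent.H777.Th3 Cfsg.Agent.H777.Th3.Dat Cfsg.Agent.H502.TO Cfsg.Agent.SP.NTh

/-- orbit and stabiliser for conjugation -/
theorem card_orbit {T : Type*} [Group T] (H : Subgroup T) (x : T) :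
    {y | ∃ h ∈ H, h * x * h⁻¹ = y}.ncard * Nat.card (H ⊓ centralizer ({x} : Set T) : Subgroup T) = Nat.card H := by
  letI : MulAction H T := MulAction.compHom T (MulAut.conj.comp H.subtype)
  have hs : ∀ (h : H) (y : T), h • y = h * y * (h : T)⁻¹ := fun _ _ => rfl
  have e1 : MulAction.orbit H x = {y | ∃ h ∈ H, h * x * h⁻¹ = y} := by
    ext y
    exact ⟨fun ⟨h, e⟩ => ⟨h, h.2, e⟩, fun ⟨h, hh, e⟩ => ⟨⟨h, hh⟩, e⟩⟩
  have e2 : MulAction.stabilizer H x = (H ⊓ centralizer ({x} : Set T)).subgroupOf H := by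
    ext h
    rw [MulAction.mem_stabilizer_iff, hs, mem_subgroupOf, mem_inf, mem_centralizer_singleton_iff, mul_inv_eq_iff_eq_mul]
    exact ⟨fun e => ⟨h.2, e⟩, fun e => e.2⟩
  rw [← e1, ← MulAction.index_stabilizer, e2, ← Nat.card_congr (subgroupOfEquivOfLe inf_le_left).toEquiv,
    index_mul_card]

theorem u4_eq : thDat.u4 = xA := by
  show el w_u4 = _
  unfold w_u4 xA Cfsg.Agent.CpAutTh.Data.X33
  rfl

theorem actV_mul {s t : Th} {f g : V5 → V5} (hs : thDat.ActV s f) (ht : thDat.ActV t g) :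
    thDat.ActV (s * t) (fun e => g (f e)) := by
  intro e
  rw [← ht, ← hs]
  group

theorem actV_pow {s : Th} {f : V5 → V5} (hs : thDat.ActV s f) (n : ℕ) : thDat.ActV (s ^ n) f^[n] := by
  induction n with
  | zero => intro e; simp
  | succ n ih =>
    rw [pow_succ, Function.iterate_succ']
    exact actV_mul (g := f) ih hs

theorem vv3 : thDat.vv (0, 0, 1, 0, 0) = thDat.u3 := by simp [vv, uu, vab, ZMod.val_one]

theorem vv_neg (e : V5) : thDat.vv (-e) = (thDat.vv e)⁻¹ := by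
  rw [eq_inv_iff_mul_eq_one, ← vv_add, neg_add_cancel, vv_zero]

theorem o_uu {e : V5} (he : e ≠ 0) : orderOf (thDat.uu e) = 3 :=
  haveI : Fact (Nat.Prime 3) := ⟨Nat.prime_three⟩
  orderOf_eq_prime (thDat.uu_cube e) fun h => he (uu_injective th_u1_ne (h.trans thDat.uu_zero.symm))

theorem isC_u3 : IsConj xC thDat.u3 := by
  haveI := finTh
  have ho : orderOf thDat.u3 = 3 := by rw [← uu_3]; exact o_uu (by decide)
  have ha := actV_mul (actV_mul eg_actV (actV_uu (0, 0, 0, 1, 0))) (actV_uu (0, 0, 0, 1, 0))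
  set w := eg * thDat.uu (0, 0, 0, 1, 0) * thDat.uu (0, 0, 0, 1, 0)
  set F : V5 → V5 := fun e => mvU (0, 0, 0, 1, 0) (mvU (0, 0, 0, 1, 0) (Gm e))
  have hw : w ∈ centralizer ({thDat.u3} : Set Th) := by
    have := ha (0, 0, 1, 0, 0)
    rw [show F (0, 0, 1, 0, 0) = (0, 0, 1, 0, 0) by decide, vv3] at this
    rw [mem_centralizer_singleton_iff]
    conv_lhs => rw [← this]
    group
  have h5 : Function.IsPeriodicPt F 5 (1, 0, 0, 0, 0) := by
    change F (F (F (F (F (1, 0, 0, 0, 0))))) = _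
    decide
  have hn : Function.IsPeriodicPt F (orderOf w) (1, 0, 0, 0, 0) := by
    have := actV_pow ha (orderOf w) (1, 0, 0, 0, 0)
    rw [pow_orderOf_eq_one, inv_one, one_mul, mul_one] at this
    exact (vv_injective th_u1_ne this).symm
  refine five_of ho (Dvd.dvd.trans ?_ (orderOf_dvd_natCard (⟨w, hw⟩ : centralizer ({thDat.u3} : Set Th))))
  rw [Subgroup.orderOf_mk]
  by_contra h
  have := h5.gcd hn
  rw [(Nat.Prime.coprime_iff_not_dvd (by norm_num)).2 h] at this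
  have h1 : F (1, 0, 0, 0, 0) = (1, 0, 0, 0, 0) := this
  revert h1
  decide

/-! ### the classes in `U` -/

/-- the quadratic form on `U / W` -/
def Qf (y : V3) : ZMod 3 := y.1 ^ 2 + y.1 * y.2.1 + 2 * y.2.1 ^ 2 + y.2.2 ^ 2

/-- action of `x0` on `U / W` -/
def Xy (y : V3) : V3 := (y.1 + 2 * y.2.1 + 2 * y.2.2, y.1 + 2 * y.2.1, 2 * y.2.1)

/-- action of `m2` on `U / W` -/
def My (y : V3) : V3 := (2 * y.1, 2 * y.2.1, y.2.2)

/-- words -/
def om (i : Fin 3) (j : Fin 2) (k : Fin 3) (y : V3) : V3 := Xy^[k] (My^[j] (Xy^[i] y))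

/-- representatives -/
def rep (c : ZMod 3) : V3 := if c = 0 then (2, 1, 2) else if c = 1 then (1, 0, 0) else (0, 1, 0)

theorem dec_reach : ∀ y : V3, y ≠ 0 → ∃ i j k, om i j k y = rep (Qf y) ∨ om i j k (-y) = rep (Qf y) := by decide +kernel

theorem dec_om : ∀ i j k y, om i j k (-y) = -om i j k y ∧ om i j k 0 = 0 := by decide +kernel

/-- `h` acts on `U / W` as `ω` -/
def ActY (h : Th) (ω : V3 → V3) : Prop := ∀ e : V5, ∃ e' : V5, e'.2.2 = ω e.2.2 ∧ h⁻¹ * thDat.uu e * h = thDat.uu e'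

theorem ActY.mul {g h : Th} {ω ω' : V3 → V3} (hg : ActY g ω) (hh : ActY h ω') : ActY (g * h) fun y => ω' (ω y) := by
  intro e
  obtain ⟨e1, h1, h2⟩ := hg e
  obtain ⟨e2, h3, h4⟩ := hh e1
  exact ⟨e2, by rw [h3, h1], by rw [← h4, ← h2]; group⟩

theorem ActY.pow {g : Th} {ω : V3 → V3} (hg : ActY g ω) (n : ℕ) : ActY (g ^ n) ω^[n] := by
  induction n with
  | zero => intro e; exact ⟨e, rfl, by simp⟩
  | succ n ih =>
    rw [pow_succ, Function.iterate_succ']
    exact ih.mul hg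

theorem actY_om (i : Fin 3) (j : Fin 2) (k : Fin 3) : ∃ h, ActY h (om i j k) :=
  have hx : ActY thDat.x0 Xy := fun e => ⟨X e, rfl, act_x0 e⟩
  have hm : ActY em2 My := fun e => ⟨M2 e, rfl, act_m2 e⟩
  ⟨_, ((hx.pow i).mul (hm.pow j)).mul (hx.pow k)⟩

theorem isConj_of {x y h : Th} (e : h⁻¹ * x * h = y) : IsConj y x := (isConj_iff.2 ⟨h⁻¹, by rwa [inv_inv]⟩).symm

theorem reachU {e : V5} (he : e.2.2 ≠ 0) : ∃ f : V5, f.2.2 = rep (Qf e.2.2) ∧
    (IsConj (thDat.uu f) (thDat.uu e) ∨ IsConj (thDat.uu f) (thDat.uu e)⁻¹) := by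
  obtain ⟨i, j, k, h⟩ := dec_reach _ he
  obtain ⟨g, hg⟩ := actY_om i j k
  rcases h with h | h
  · obtain ⟨f, h1, h2⟩ := hg e
    exact ⟨f, h1.trans h, Or.inl (isConj_of h2)⟩
  · obtain ⟨f, h1, h2⟩ := hg (-e)
    exact ⟨f, h1.trans h, Or.inr (by rw [← uu_neg]; exact isConj_of h2)⟩

theorem isB_form {e : V5} (he : e ≠ 0) (h : e.2.2 = 0 ∨ e.2.2 = (2, 1, 2) ∨ e.2.2 = (1, 2, 1)) : IsConj xB (thDat.uu e) := by
  rcases isConj_u1 he h with h | h
  · exact isB_u1.trans h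
  · exact (isB_inv isB_u1).trans h

theorem isB_uu {e : V5} (he : e ≠ 0) (h : Qf e.2.2 = 0) : IsConj xB (thDat.uu e) := by
  by_cases h0 : e.2.2 = 0
  · exact isB_form he (Or.inl h0)
  obtain ⟨f, h1, h2⟩ := reachU h0
  rw [h] at h1
  have hf : IsConj xB (thDat.uu f) := isB_form (by rintro rfl; revert h1; decide) (Or.inr (Or.inl h1))
  rcases h2 with h2 | h2
  · exact hf.trans h2
  · simpa using isB_inv (hf.trans h2)

theorem isC_uu {e : V5} (h : Qf e.2.2 = 1) : IsConj xC (thDat.uu e) := by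
  obtain ⟨⟨x, y, z⟩, h1, h2⟩ := reachU (e := e) (fun h0 => by rw [h0] at h; revert h; decide)
  rw [h] at h1
  obtain rfl : z = (1, 0, 0) := h1
  have hd : ∀ x y : ZMod 3, ∃ c d : ZMod 3, T 0 0 c d (x, y, 1, 0, 0) = (0, 0, 1, 0, 0) := by decide +kernel
  obtain ⟨c, d, hcd⟩ := hd x y
  have h3 := act_w4 (D := thDat) 0 0 c d (x, y, 1, 0, 0)
  rw [hcd, uu_3] at h3
  have hf := isC_u3.trans (isConj_of h3)
  rcases h2 with h2 | h2
  · exact hf.trans h2
  · simpa using isC_inv (hf.trans h2)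

theorem isA_uu {e : V5} (h : Qf e.2.2 = 2) : IsConj xA (thDat.uu e) := by
  obtain ⟨⟨x, y, z⟩, h1, h2⟩ := reachU (e := e) (fun h0 => by rw [h0] at h; revert h; decide)
  rw [h] at h1
  obtain rfl : z = (0, 1, 0) := h1
  have hd : ∀ x y : ZMod 3, ∃ a b : ZMod 3, T a b 0 0 (x, y, 0, 1, 0) = (0, 0, 0, 1, 0) := by decide +kernel
  obtain ⟨c, d, hcd⟩ := hd x y
  have h3 := act_w4 (D := thDat) c d 0 0 (x, y, 0, 1, 0)
  rw [hcd, uu_4, u4_eq] at h3
  have hf := isConj_of h3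
  rcases h2 with h2 | h2
  · exact hf.trans h2
  · simpa using isA_inv (hf.trans h2)

theorem three_cases (c : ZMod 3) : c = 0 ∨ c = 1 ∨ c = 2 := by revert c; decide

theorem ne_one_of {x y : Th} (hx : orderOf x = 3) (h : IsConj x y) : y ≠ 1 := by
  rintro rfl
  have := isConj_order h
  rw [orderOf_one, hx] at this
  omega

theorem Qf_of_B {e : V5} (h : IsConj xB (thDat.uu e)) : Qf e.2.2 = 0 := by
  rcases three_cases (Qf e.2.2) with q | q | q
  · exact q
  · exact absurd (h.trans (isC_uu q).symm) not_conj_BC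
  · exact absurd ((isA_uu q).trans h.symm) not_conj_AB

theorem Qf_of_C {e : V5} (h : IsConj xC (thDat.uu e)) : Qf e.2.2 = 1 := by
  rcases three_cases (Qf e.2.2) with q | q | q
  · exact absurd ((isB_uu (by rintro rfl; exact ne_one_of oC h thDat.uu_zero) q).trans h.symm) not_conj_BC
  · exact q
  · exact absurd ((isA_uu q).trans h.symm) not_conj_AC

theorem Qf_of_A {e : V5} (h : IsConj xA (thDat.uu e)) : Qf e.2.2 = 2 := by
  rcases three_cases (Qf e.2.2) with q | q | q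
  · exact absurd (h.trans (isB_uu (by rintro rfl; exact ne_one_of oA h thDat.uu_zero) q).symm) not_conj_AB
  · exact absurd (h.trans (isC_uu q).symm) not_conj_AC
  · exact q

/-! ### the classes in `Vs` -/

/-- the linear form with kernel `E0` -/
def lam (e : V5) : ZMod 3 := e.2.2.1 + 2 * e.2.2.2.1 + 2 * e.2.2.2.2

theorem lam_add (e f : V5) : lam (e + f) = lam e + lam f := by
  simp only [lam, Prod.fst_add, Prod.snd_add]; ring

theorem mv3 : ∀ i : Fin 3, mvV i (0, 0, 1, 0, 0) = (0, 0, 1, 0, 0) := by decide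

theorem lam_mv : ∀ (i : Fin 3) (e : V5), lam (mvV i e) = lam e := by decide +kernel

/-- the normaliser of `Vs` -/
def NV : Subgroup Th := normalizer (thDat.Vs : Set Th)

theorem mem_NV_of {s : Th} {f : V5 → V5} (h : thDat.ActV s f) : s ∈ NV := by
  haveI := finTh
  refine (inv_mem_iff (x := s)).1 (mem_normalizer_fintype fun v hv => ?_)
  obtain ⟨e, rfl⟩ := (thDat.mem_Vs).1 hv
  rw [inv_inv, h]
  exact thDat.vv_mem _

theorem reachV (e : V5) (he : e ≠ 0) : ∃ h ∈ NV, h⁻¹ * thDat.u3 * h = thDat.u3 ∧ ∃ b ∈ baseV, lam b = lam e ∧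
    h⁻¹ * thDat.vv e * h = thDat.vv b := by
  generalize hn : depV e = n
  induction n using Nat.strong_induction_on generalizing e with
  | _ n ih =>
    rcases desc e with h0 | hb | ⟨i, hi, hne⟩
    · exact absurd h0 he
    · exact ⟨1, one_mem _, by group, e, hb, rfl, by group⟩
    · obtain ⟨h, hN, h3, b, hb, hl, hh⟩ := ih _ (hn ▸ hi) (mvV i e) hne rfl
      have hact : ∃ s : Th, thDat.ActV s (mvV i) := by
        fin_cases i
        · exact ⟨eg, eg_actV⟩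
        · exact ⟨_, actV_uu (0, 0, 0, 1, 0)⟩
        · exact ⟨_, actV_uu (0, 0, 0, 0, 1)⟩
      obtain ⟨s, hs⟩ := hact
      have h4 := hs (0, 0, 1, 0, 0)
      rw [mv3, vv3] at h4
      refine ⟨s * h, mul_mem (mem_NV_of hs) hN, ?_, b, hb, hl.trans (lam_mv i e), ?_⟩
      · conv_rhs => rw [← h3, ← h4]
        group
      · rw [← hh, ← hs]
        group

theorem isB_vv {e : V5} (he : e ≠ 0) (h : lam e = 0) : IsConj xB (thDat.vv e) := by
  obtain ⟨g, -, -, b, hb, hl, hg⟩ := reachV e he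
  have hd : ∀ b ∈ baseV, lam b = 0 → b ≠ 0 ∧ b.2.2.2 = 0 ∧ b.2.2 = 0 := by decide +kernel
  obtain ⟨h1, h2, h3⟩ := hd b hb (hl.trans h)
  rw [vv_W _ h2] at hg
  exact (isB_form h1 (Or.inl h3)).trans (isConj_of hg)

theorem isC_vv {e : V5} (h : lam e ≠ 0) : IsConj xC (thDat.vv e) := by
  obtain ⟨g, -, -, b, hb, hl, hg⟩ := reachV e (by rintro rfl; exact h (by decide))
  have hd : ∀ b ∈ baseV, lam b ≠ 0 → b.2.2.2 = 0 ∧ Qf b.2.2 = 1 := by decide +kernel
  obtain ⟨h2, h3⟩ := hd b hb (hl ▸ h)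
  rw [vv_W _ h2] at hg
  exact (isC_uu h3).trans (isConj_of hg)

theorem lam_of_B {e : V5} (h : IsConj xB (thDat.vv e)) : lam e = 0 := by
  by_contra q
  exact not_conj_BC (h.trans (isC_vv q).symm)

theorem lam_of_C {e : V5} (h : IsConj xC (thDat.vv e)) : lam e ≠ 0 := fun q =>
  not_conj_BC ((isB_vv (by rintro rfl; exact ne_one_of oC h thDat.vv_zero) q).trans h.symm)

theorem not_A_Vs {x : Th} (hx : x ∈ thDat.Vs) : ¬ IsConj xA x := by
  obtain ⟨e, rfl⟩ := (thDat.mem_Vs).1 hx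
  intro h
  by_cases q : lam e = 0
  · exact not_conj_AB (h.trans (isB_vv (by rintro rfl; exact ne_one_of oA h thDat.vv_zero) q).symm)
  · exact not_conj_AC (h.trans (isC_vv q).symm)

/-- action of `m2` on `Vs` -/
def M2V (e : V5) : V5 := (e.2.1 + e.2.2.2.2, 2 * e.1 + e.2.2.2.1, 2 * e.2.2.1 + 2 * e.2.2.2.2, e.2.2.2.2, 2 * e.2.2.2.1)

theorem m2_actV : thDat.ActV em2 M2V := by
  refine actV_of (fun x y => ?_) ?_
  · simp only [M2V, Prod.fst_add, Prod.snd_add, Prod.mk_add_mk, Prod.mk.injEq]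
    refine ⟨?_, ?_, ?_, trivial, ?_⟩ <;> ring
  intro e he
  simp only [List.mem_cons, List.not_mem_nil, or_false] at he
  rcases he with rfl | rfl | rfl | rfl | rfl
  · rw [show M2V (1, 0, 0, 0, 0) = (0, 2, 0, 0, 0) by decide]
    simp [vv, uu, vab, ZMod.val_one, val_two, cj1 m2_u1]
  · rw [show M2V (0, 1, 0, 0, 0) = (1, 0, 0, 0, 0) by decide]
    simp [vv, uu, vab, ZMod.val_one, cj1 m2_u2]
  · rw [show M2V (0, 0, 1, 0, 0) = (0, 0, 2, 0, 0) by decide]
    simp [vv, uu, vab, ZMod.val_one, val_two, cj1 m2_u3]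
  · rw [show M2V (0, 0, 0, 1, 0) = (0, 1, 0, 0, 2) by decide]
    simp [vv, uu, vab, ZMod.val_one, val_two, cj1 (m2_v1.trans (mul_assoc _ _ _))]
  · rw [show M2V (0, 0, 0, 0, 1) = (1, 0, 2, 1, 0) by decide]
    have := cj1 (w := thDat.u1 * thDat.u3 ^ 2 * thDat.v1) (m2_v2.trans (by simp only [mul_assoc]))
    simp [vv, uu, vab, ZMod.val_one, val_two, this]

theorem N_le_NV : thDat.N ≤ NV := fun x hx => by
  haveI := finTh
  refine (inv_mem_iff (x := x)).1 (mem_normalizer_fintype fun v hv => ?_)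
  rw [inv_inv]
  exact conj_Vs th_u1_ne hx hv

theorem u3_Vs : thDat.u3 ∈ thDat.Vs := vv3 ▸ thDat.vv_mem _

theorem N_le_C3 : thDat.N ≤ centralizer ({thDat.u3} : Set Th) := fun _ hx =>
  mem_centralizer_singleton_iff.2 (W_central th_u1_ne u3_Vs thDat.u3_mem hx).symm

/-- **`N(Vs)` normalises `⟨u3⟩`** -/
theorem NV_u3 {a : Th} (ha : a ∈ NV) : a * thDat.u3 * a⁻¹ = thDat.u3 ∨ a * thDat.u3 * a⁻¹ = thDat.u3⁻¹ := by
  haveI := finTh
  by_contra hcon
  push Not at hcon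
  let O : Set Th := {y | ∃ h ∈ NV, h * thDat.u3 * h⁻¹ = y}
  have hcj : ∀ {y h : Th}, h ∈ NV → y ∈ O → h * y * h⁻¹ ∈ O := by
    rintro _ h hh ⟨k, hk, rfl⟩
    exact ⟨h * k, mul_mem hh hk, by group⟩
  have hm : em2⁻¹ * thDat.u3 * em2 = thDat.u3⁻¹ := by
    rw [cj1 m2_u3, eq_inv_iff_mul_eq_one, ← pow_succ, thDat.c3]
  have hinv : ∀ {y : Th}, y ∈ O → y⁻¹ ∈ O := by
    rintro _ ⟨k, hk, rfl⟩
    refine ⟨k * em2⁻¹, mul_mem hk (inv_mem (mem_NV_of m2_actV)), ?_⟩
    calc k * em2⁻¹ * thDat.u3 * (k * em2⁻¹)⁻¹ = k * (em2⁻¹ * thDat.u3 * em2) * k⁻¹ := by group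
      _ = _ := by rw [hm]; group
  have h3 : thDat.vv (0, 0, 1, 0, 0) ∈ O := ⟨1, one_mem _, by rw [vv3]; group⟩
  have hO : ∀ y ∈ O, ∃ e, lam e ≠ 0 ∧ y = thDat.vv e := by
    rintro _ ⟨k, hk, rfl⟩
    obtain ⟨e, he⟩ := (thDat.mem_Vs).1 ((mem_normalizer_iff.1 hk _).1 u3_Vs)
    exact ⟨e, lam_of_C (he ▸ isC_u3.trans (isConj_iff.2 ⟨k, rfl⟩)), he⟩
  have hd : ∀ b ∈ baseV, lam b ≠ 0 → b = (0, 0, 1, 0, 0) ∨ b = -(0, 0, 1, 0, 0) ∨ b = (1, 0, 1, 0, 0) ∨
    b = -(1, 0, 1, 0, 0) := by decide +kernel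
  have h13 : thDat.vv (1, 0, 1, 0, 0) ∈ O := by
    have haO : a * thDat.u3 * a⁻¹ ∈ O := ⟨a, ha, rfl⟩
    obtain ⟨e, he, hae⟩ := hO _ haO
    obtain ⟨g, hg, hg3, b, hb, hl, hgb⟩ := reachV e (by rintro rfl; exact he (by decide))
    have hbO : thDat.vv b ∈ O := by
      have := hcj (inv_mem hg) haO
      rwa [inv_inv, hae, hgb] at this
    have inj : ∀ {x y : Th}, g⁻¹ * x * g = g⁻¹ * y * g → x = y := fun h => mul_left_cancel (mul_right_cancel h)
    rcases hd b hb (hl ▸ he) with rfl | rfl | rfl | rfl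
    · exact absurd (hae.trans (inj (by rw [hgb, hg3, vv3]))) hcon.1
    · refine absurd (hae.trans (inj ?_)) hcon.2
      rw [hgb, vv_neg, vv3]
      conv_lhs => rw [← hg3]
      group
    · exact hbO
    · have := hinv hbO
      rwa [vv_neg, inv_inv] at this
  have hall : O = thDat.vv '' {e | lam e ≠ 0} := by
    ext y
    refine ⟨fun hy => ?_, ?_⟩
    · obtain ⟨e, he, rfl⟩ := hO y hy
      exact ⟨e, he, rfl⟩
    · rintro ⟨e, he, rfl⟩
      obtain ⟨g, hg, -, b, hb, hl, hgb⟩ := reachV e (by rintro rfl; exact he (by decide))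
      have hbO : thDat.vv b ∈ O := by
        rcases hd b hb (hl ▸ he) with rfl | rfl | rfl | rfl
        · exact h3
        · rw [vv_neg]; exact hinv h3
        · exact h13
        · rw [vv_neg]; exact hinv h13
      have := hcj hg hbO
      rw [← hgb] at this
      simpa [mul_assoc] using this
  have hc : O.ncard = 162 := by
    rw [hall, Set.ncard_image_of_injective _ (vv_injective th_u1_ne)]
    have : {e : V5 | lam e ≠ 0} = ↑(Finset.univ.filter fun e : V5 => lam e ≠ 0) := by ext; simp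
    rw [this, Set.ncard_coe_finset]
    decide +kernel
  have h1 := card_orbit NV thDat.u3
  have h2 : Nat.card thDat.N ∣ _ := card_dvd_of_le (le_inf N_le_NV N_le_C3)
  rw [card_N th_u1_ne] at h2
  have h4 : 162 * 3 ^ 7 ∣ Nat.card NV := by
    rw [← h1]
    exact Nat.mul_dvd_mul (hc ▸ dvd_rfl) h2
  exact absurd (h4.trans (sub_dvd NV)) (by norm_num)

theorem not_dvd_NV : ¬ 3 ^ (7 + 1) ∣ Nat.card NV :=
  not_dvd_norm_Th N_le_NV fun g hg x => by
    have := mem_normalizer_iff.1 (inv_mem hg) x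
    rwa [inv_inv] at this

end Cfsg.Agent.SP.NTh.Three
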