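import Cfsg.Agent.H502.TO.StarA
import Cfsg.Agent.H777.Th3.SylI
import Mathlib.Tactic.LinearCombination
import Mathlib.Tactic.Abel

/-! # S5755, row `Th`: cubes in `T`, elementary abelian subgroups of `T` (helper23) -/

set_option autoImplicit false
set_option synthInstance.maxHeartbeats 400000
set_option synthInstance.maxSize 2000

namespace Cfsg.Agent.SP.NTh.Three

open Cfsg.Agent.H777.Th3 Cfsg.Agent.H777.Th3.Dat Cfsg.Agent.H502.TO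

/-- the vector with first coordinates `p` -/
def wv (p : ZMod 3 × ZMod 3) : V5 := (p.1, p.2, 0, 0, 0)

theorem wv_add (p p' : ZMod 3 × ZMod 3) : wv (p + p') = wv p + wv p' := by simp [wv]

theorem cube_vec (q q' : Q4) (e : V5) : Tq (-q) (-e) + Tq (-q) (Tq (-q) (Tq (-q') (-e))) + Tq (-q) (Tq (-q) (-e)) =
    wv (L q' e.2.2 - L q e.2.2) := by
  obtain ⟨a, b, c, d⟩ := q
  obtain ⟨a', b', c', d'⟩ := q'
  obtain ⟨e1, e2, e3, e4, e5⟩ := e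
  have h3 : (3 : ZMod 3) = 0 := rfl
  simp only [Tq, T, L, wv, Prod.neg_mk, Prod.mk_add_mk, Prod.mk_sub_mk, Prod.mk.injEq]
  refine ⟨?_, ?_, ?_, ?_, ?_⟩
  · linear_combination (-e1 + 2 * (2 * a * (e4 + e5) + b * e5 + c * (2 * e3 + e5) + d * (2 * e3 + 2 * e4))) * h3
  · linear_combination (-e2 + 2 * (2 * a * e5 + b * (e4 + 2 * e5) + d * (2 * e3 + e5))) * h3
  · linear_combination (-e3) * h3
  · linear_combination (-e4) * h3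
  · linear_combination (-e5) * h3

/-- the cube map -/
def cb (q : Q4) : ZMod 3 × ZMod 3 :=
  L (0, 0, q.2.2.1, 0) (B (q.1, q.2.1, 0, 0) (0, 0, q.2.2.1, 0)) - L (q.1, q.2.1, 0, 0) (B (q.1, q.2.1, 0, 0) (0, 0, q.2.2.1, 0)) +
    (q.2.2.2, 0) + (L (0, 0, 0, q.2.2.2) (B (q.1, q.2.1, q.2.2.1, 0) (0, 0, 0, q.2.2.2)) -
      L (q.1, q.2.1, q.2.2.1, 0) (B (q.1, q.2.1, q.2.2.1, 0) (0, 0, 0, q.2.2.2)))

theorem dec_cb : ∀ q : Q4, cb q = 0 → ∃ i : Fin 3, (sg^[i] q).2.2 = 0 ∨ sg^[i] q = (0, 0, 1, 0) ∨ -sg^[i] q = (0, 0, 1, 0) ∨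
    sg^[i] q = (2, 0, 2, 1) ∨ -sg^[i] q = (2, 0, 2, 1) := by decide +kernel

theorem dec_sg0 : ∀ (i : Fin 3) (q : Q4), sg^[i] q = 0 → q = 0 := by decide +kernel

theorem dec_BN : ∀ q q' : Q4, q.2.2 = 0 → q ≠ 0 → B q q' = 0 → q'.2.2 = 0 := by decide +kernel

theorem dec_Br : ∀ q' : Q4, B (0, 0, 1, 0) q' = 0 → ∃ i : Fin 3, q' = (i : ℕ) • ((0, 0, 1, 0) : Q4) := by decide +kernel

theorem dec_Bs : ∀ q' : Q4, B (2, 0, 2, 1) q' = 0 → ∃ i : Fin 3, q' = (i : ℕ) • ((2, 0, 2, 1) : Q4) := by decide +kernel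

theorem dec_cbb : ∀ c d : ZMod 3, cb (0, 0, c, d) = (d, 0) := by decide +kernel

variable {G : Type*} [Group G] {D : Dat G}

theorem lc {s : G} {q : Q4} (h : D.Act s (Tq q)) (x : V5) : s * D.uu x * s⁻¹ = D.uu (Tq (-q) x) := by
  have := h (Tq (-q) x)
  rw [Tq_Tq, add_neg_cancel, Tq_zero] at this
  rw [← this]; group

theorem cube_mul {s t : G} {q q' : Q4} {β : V3} {w w' : ZMod 3 × ZMod 3} (hs : D.Act s (Tq q)) (ht : D.Act t (Tq q'))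
    (hP : P D s t β) (h3 : s ^ 3 = D.uu (wv w)) (h3' : t ^ 3 = D.uu (wv w')) :
    (s * t) ^ 3 = D.uu (wv (w + w' + (L q' β - L q β))) := by
  obtain ⟨e, rfl, he⟩ := hP
  have h : t * s = D.uu (-e) * (s * t) := by rw [he, uu_neg]; group
  calc (s * t) ^ 3 = s * (t * s) * (t * s) * t := by simp only [pow_succ, pow_zero, one_mul, mul_assoc]
    _ = s * (D.uu (-e) * (s * t)) * (D.uu (-e) * (s * t)) * t := by rw [h]
    _ = s * D.uu (-e) * s * (t * D.uu (-e) * t⁻¹) * (t * s) * t * t := by group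
    _ = s * D.uu (-e) * s * (t * D.uu (-e) * t⁻¹) * (D.uu (-e) * (s * t)) * t * t := by rw [h]
    _ = (s * D.uu (-e) * s⁻¹) * (s * (s * (t * D.uu (-e) * t⁻¹) * s⁻¹) * s⁻¹) * (s * (s * D.uu (-e) * s⁻¹) * s⁻¹) *
        (s ^ 3 * t ^ 3) := by simp only [pow_succ, pow_zero, one_mul, mul_assoc, inv_mul_cancel_left]
    _ = _ := by
      simp only [lc ht, lc hs]
      rw [← uu_add, ← uu_add, cube_vec, h3, h3', ← uu_add, ← uu_add, wv_add, wv_add]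
      congr 1
      abel

theorem wv_zero : wv 0 = 0 := rfl

theorem cube_w4 (q : Q4) : D.w4 q.1 q.2.1 q.2.2.1 q.2.2.2 ^ 3 = D.uu (wv (cb q)) := by
  obtain ⟨a, b, c, d⟩ := q
  have e1 : D.w4 a b 0 0 ^ 3 = D.uu (wv 0) := by
    rw [wv_zero, uu_zero, ← vab_eq_w4 (a, b), pow_succ, pow_succ, pow_one, ← vab_add, ← vab_add]
    have : ∀ m : ZMod 3 × ZMod 3, m + m + m = 0 := by decide
    rw [this, vab_zero]
  have e2 : D.w4 0 0 c 0 ^ 3 = D.uu (wv 0) := by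
    rw [wv_zero, uu_zero]
    simp only [w4, ZMod.val_zero, pow_zero, one_mul, mul_one]
    rw [← pow_mul, mul_comm, pow_mul, D.p_r1, one_pow]
  have e3 : D.w4 0 0 0 d ^ 3 = D.uu (wv (d, 0)) := by
    simp only [w4, ZMod.val_zero, pow_zero, one_mul, wv, uu, mul_one]
    rw [← pow_mul, mul_comm, pow_mul, D.p_r2]
  have e4 := cube_mul (q := (a, b, 0, 0)) (q' := (0, 0, c, 0)) (act_w4 a b 0 0) (act_w4 0 0 c 0) (P_B a b 0 0 0 0 c 0) e1 e2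
  have m1 : D.w4 a b 0 0 * D.w4 0 0 c 0 = D.w4 a b c 0 := by simp [w4]
  rw [m1] at e4
  have e5 := cube_mul (q := (a, b, c, 0)) (q' := (0, 0, 0, d)) (act_w4 a b c 0) (act_w4 0 0 0 d) (P_B a b c 0 0 0 0 d) e4 e3
  have m2 : D.w4 a b c 0 * D.w4 0 0 0 d = D.w4 a b c d := by simp [w4]
  rw [m2] at e5
  rw [e5]
  simp only [cb, zero_add]

/-- **cubes in `T`** -/
theorem cube_T (h1 : D.u1 ≠ 1) {x : G} (hx : x ∈ D.Tg) : x ^ 3 = D.uu (wv (cb (D.qT x))) := by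
  obtain ⟨e, a, b, c, d, rfl⟩ := (D.mem_Tg).1 hx
  rw [qT_w4 h1]
  have := cube_mul (q := 0) (q' := (a, b, c, d)) (w := 0) ((act_uu (D := D) e).congr fun x => (Tq_zero x).symm) (act_w4 a b c d)
    (P_uu (w4_Tg a b c d) e) (by rw [uu_cube, wv_zero, uu_zero]) (cube_w4 (a, b, c, d))
  rw [this]
  simp [L]

theorem cb_eq_zero (h1 : D.u1 ≠ 1) {x : G} (hx : x ∈ D.Tg) (h3 : x ^ 3 = 1) : cb (D.qT x) = 0 := by
  rw [cube_T h1 hx, ← D.uu_zero] at h3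
  have := uu_injective h1 h3
  exact Prod.ext (congrArg (·.1) this) (congrArg (·.2.1) this)

theorem mem_N_of_q (h1 : D.u1 ≠ 1) {x : G} (hx : x ∈ D.Tg) (hq : (D.qT x).2.2 = 0) : x ∈ D.N := by
  obtain ⟨e, a, b, c, d, rfl⟩ := (D.mem_Tg).1 hx
  rw [qT_w4 h1] at hq
  obtain ⟨rfl, rfl⟩ : c = 0 ∧ d = 0 := Prod.mk.inj hq
  exact (D.mem_N).2 ⟨e, a, b, by simp [w4]⟩

/-- an element of `N` outside `U` is conjugate into `Vs`, together with its centraliser in `N` -/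
theorem toVs (h1 : D.u1 ≠ 1) {x : G} (hx : x ∈ D.N) (hxU : x ∉ D.U) :
    ∃ t ∈ D.Tg, ∀ y ∈ D.N, x * y = y * x → t⁻¹ * y * t ∈ D.Vs := by
  obtain ⟨m, hm⟩ := mem_N_iff_eta.1 hx
  have hm2 : m.2 ≠ 0 := fun h => hxU ((hm.mem_U_iff h1).2 h)
  obtain ⟨c, d, hcd⟩ := solve_cd m.1 m.2.1 m.2.2 hm2
  have hT : D.r1 ^ c.val * D.r2 ^ d.val ∈ D.Tg := D.Tg.mul_mem (D.Tg.pow_mem D.r1_Tg _) (D.Tg.pow_mem D.r2_Tg _)
  obtain ⟨a', b', c', d', ha⟩ := act_of_mem_Tg hT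
  have h2 := hm.conj (Kc_rr c d) ha
  have h3 : m.1 + m.2.1.val • (shf c d).1 + m.2.2.val • (shf c d).2 = 0 := hcd
  rw [h3] at h2
  have hxV := (mem_Vs_iff h1 h2).2 rfl
  have hxnU : (D.r1 ^ c.val * D.r2 ^ d.val)⁻¹ * x * (D.r1 ^ c.val * D.r2 ^ d.val) ∉ D.U :=
    fun h => hm2 ((h2.mem_U_iff h1).1 h)
  refine ⟨_, hT, fun y hy h5 => mem_Vs_of_comm h1 hxV hxnU (conj_N h1 hT hy) ?_⟩
  generalize D.r1 ^ c.val * D.r2 ^ d.val = t at *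
  calc t⁻¹ * x * t * (t⁻¹ * y * t) = t⁻¹ * (x * y) * t := by group
    _ = t⁻¹ * (y * x) * t := by rw [h5]
    _ = _ := by group

theorem conj_x0_pow (h1 : D.u1 ≠ 1) (n : ℕ) {x : G} (hx : x ∈ D.Tg) :
    (D.x0 ^ n)⁻¹ * x * D.x0 ^ n ∈ D.Tg ∧ D.qT ((D.x0 ^ n)⁻¹ * x * D.x0 ^ n) = sg^[n] (D.qT x) := by
  induction n with
  | zero => simpa using hx
  | succ n ih =>
    have e : (D.x0 ^ (n + 1))⁻¹ * x * D.x0 ^ (n + 1) = D.x0⁻¹ * ((D.x0 ^ n)⁻¹ * x * D.x0 ^ n) * D.x0 := by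
      rw [pow_succ]; group
    rw [e, Function.iterate_succ_apply', ← ih.2]
    exact ⟨D.conj_x0_Tg _ ih.1, qT_conj_x0 h1 ih.1⟩

/-- elements of `T` commuting with `x` -/
theorem form_of_comm (h1 : D.u1 ≠ 1) {x y : G} (hx : x ∈ D.Tg) (hy : y ∈ D.Tg) {n : ℕ} (hq : D.qT y = n • D.qT x) :
    ∃ e, y = D.uu e * x ^ n := by
  have hm : y * (x ^ n)⁻¹ ∈ D.Tg := D.Tg.mul_mem hy (D.Tg.inv_mem (D.Tg.pow_mem hx n))
  have : D.qT (y * (x ^ n)⁻¹) = 0 := by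
    rw [qT_mul h1 hy (D.Tg.inv_mem (D.Tg.pow_mem hx n)), qT_inv h1 (D.Tg.pow_mem hx n), qT_pow h1 hx, hq, add_neg_cancel]
  obtain ⟨e, he⟩ := (D.mem_U).1 ((mem_U_iff_qT h1 hm).2 this)
  exact ⟨e, by rw [← he]; group⟩

end Cfsg.Agent.SP.NTh.Three
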