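import Cfsg.Agent.SP.NTh.Three.Cls
import Cfsg.Agent.SP.NTh.Base
import Cfsg.Agent.S0058

/-! # S5755, row `Th`: involutions commuting with elementary abelian 3-subgroups (helper23) -/

set_option autoImplicit false

namespace Cfsg.Agent.SP.NTh.Three

open Subgroup Cfsg.Agent.SP Cfsg.Agent.Th.Word Cfsg.Agent.Th.Gen248 Cfsg.Agent.Th.Hom248 Cfsg.Agent.Th.IndexUpper
open Cfsg.Agent.Th.CStruct Cfsg.Agent.KFacts.Th.Struct
open Cfsg.Agent.CpAutTh.Data Cfsg.Agent.CpAutTh.Local Cfsg.Agent.BpSpor.ThCent Cfsg.Agent.SP.NTh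

theorem mem_C_of {s x g : Th} (hg : g * s * g⁻¹ = gTh 1) (hc : s * x = x * s) : g * x * g⁻¹ ∈ sub gTh isC := by
  rw [ctx.mem_C, ← hg]
  calc g * x * g⁻¹ * (g * s * g⁻¹) = g * (x * s) * g⁻¹ := by group
    _ = _ := by rw [← hc]; group

/-- an involution and an element of order three commuting with it -/
theorem pairConj {s x : Th} (hs : orderOf s = 2) (hx : orderOf x = 3) (hc : s * x = x * s) :
    ∃ g : Th, g * s * g⁻¹ = gTh 1 ∧ (g * x * g⁻¹ = xC ∨ g * x * g⁻¹ = xA ∨ g * x * g⁻¹ = xB) := by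
  obtain ⟨f, F⟩ := exists_epi ctx
  obtain ⟨g, hg⟩ := Cfsg.Agent.H495.SprThRep.hone s hs
  obtain ⟨k, hk⟩ := exists_rep_three ctx F (x := ⟨_, mem_C_of hg hc⟩)
    (by rw [Subgroup.orderOf_mk, isConj_order (isConj_iff.2 ⟨g, rfl⟩), hx])
  have e : ∀ y : Th, (k : Th) * g * y * ((k : Th) * g)⁻¹ = k * (g * y * g⁻¹) * (k : Th)⁻¹ := fun y => by group
  refine ⟨k * g, by rw [e, hg, ctx.mem_C.1 k.2, mul_inv_cancel_right], ?_⟩
  rw [e]
  rcases hk with h | h | h
  · exact Or.inl (congrArg Subtype.val h)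
  · exact Or.inr (Or.inl (congrArg Subtype.val h))
  · exact Or.inr (Or.inr (congrArg Subtype.val h))

theorem dvd_sxB : 648 ∣ Nat.card (centralizer ({xB} : Set Th) ⊓ centralizer ({gTh 1} : Set Th) : Subgroup Th) := by
  haveI := finTh
  unfold xB
  have e : centralizer ({sx ctx c333} : Set (centralizer ({ev gTh X333} : Set Th))) =
      (centralizer ({ev gTh X333} : Set Th) ⊓ centralizer ({gTh 1} : Set Th)).subgroupOf
        (centralizer ({ev gTh X333} : Set Th)) := by
    ext y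
    rw [mem_subgroupOf, mem_inf, mem_centralizer_singleton_iff]
    exact ⟨fun h => ⟨y.2, mem_centralizer_singleton_iff.2 (congrArg Subtype.val h)⟩,
      fun h => Subtype.ext (mem_centralizer_singleton_iff.1 h.2)⟩
  rw [← Nat.card_congr (subgroupOfEquivOfLe inf_le_left).toEquiv, ← e]
  refine Nat.Coprime.mul_dvd_of_dvd_of_dvd (m := 8) (n := 81) (by norm_num)
    (two_part_uniq (order_sx ctx c333) uniqB (k := 3) (Cfsg.Agent.H555.Hall.ThC.eight ctx)) ?_
  obtain ⟨f, F⟩ := exists_epi ctx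
  obtain ⟨n, -, -, h2⟩ := card_sx F c333
  rw [h2, card_range F c333 (o333 ctx F) sccc m333 (m := 81) card333]
  exact Dvd.intro_left _ rfl

/-- **at most 729 involutions commute with an element of class 3B** -/
theorem iB {x : Th} (hx : IsConj xB x) : {t : Th | orderOf t = 2 ∧ t * x = x * t}.ncard ≤ 729 := by
  haveI := finTh
  obtain ⟨k, rfl⟩ := isConj_iff.1 hx
  have h1 := card_orbit (centralizer ({xB} : Set Th)) (gTh 1)
  obtain ⟨m, hm⟩ := dvd_sxB
  have h2 := Nat.le_of_dvd (by norm_num) cB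
  have h3 : 0 < m := Nat.pos_of_ne_zero fun e => by
    rw [e] at hm
    exact Nat.card_pos.ne' hm
  refine le_trans (Set.ncard_le_ncard_of_injOn (t := {y | ∃ h ∈ centralizer ({xB} : Set Th), h * gTh 1 * h⁻¹ = y})
    (fun t => k⁻¹ * t * k) (fun t ht => ?_) (fun a _ b _ e => mul_left_cancel (mul_right_cancel e))) ?_
  · have hc : k⁻¹ * t * k * xB = xB * (k⁻¹ * t * k) := by
      calc k⁻¹ * t * k * xB = k⁻¹ * (t * (k * xB * k⁻¹)) * k := by group
        _ = _ := by rw [ht.2]; group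
    obtain ⟨g, hg, h | h | h⟩ := pairConj ((orderOf_conj' k t).trans ht.1) oB hc
    · exact absurd (isConj_iff.2 ⟨g, h⟩) not_conj_BC
    · exact absurd (isConj_iff.2 ⟨g, h⟩).symm not_conj_AB
    · refine ⟨g⁻¹, inv_mem (mem_centralizer_singleton_iff.2 (mul_inv_eq_iff_eq_mul.1 h)), ?_⟩
      rw [← hg]; group
  · rw [hm] at h1
    nlinarith

/-- **a pure 3B subgroup commuting with an involution has order at most nine** -/
theorem semi {s : Th} (hs : orderOf s = 2) {V : Subgroup Th} (hc : ∀ v ∈ V, s * v = v * s)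
    (hB : ∀ v ∈ V, v ≠ 1 → IsConj xB v) : Nat.card V ≤ 9 := by
  obtain ⟨f, F⟩ := exists_epi ctx
  obtain ⟨g, hg⟩ := Cfsg.Agent.H495.SprThRep.hone s hs
  let φ : V →* sub gTh isC :=
    { toFun := fun v => ⟨g * v * g⁻¹, mem_C_of hg (hc v v.2)⟩
      map_one' := by ext; simp
      map_mul' := fun x y => by ext; simp [mul_assoc] }
  let π : V →* Equiv.Perm (Fin 9) := (alternatingGroup (Fin 9)).subtype.comp (f.comp φ)
  have nofix : ∀ v : V, ∀ w, π v w = w → v = 1 := by
    intro v w hw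
    by_contra hv
    have hvB := hB v v.2 fun e => hv (Subtype.ext e)
    have hc' : IsConj (v : Th) (φ v) := isConj_iff.2 ⟨g, rfl⟩
    obtain ⟨k, h | h | h⟩ := exists_rep_three ctx F (x := φ v)
      (by rw [← Subgroup.orderOf_coe, isConj_order hc', isConj_order hvB, oB])
    · exact not_conj_BC ((hvB.trans hc').trans (isConj_iff.2 ⟨k, congrArg Subtype.val h⟩))
    · exact not_conj_AB ((hvB.trans hc').trans (isConj_iff.2 ⟨k, congrArg Subtype.val h⟩)).symm
    · have e2 := F.word X333 c333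
      rw [← h, map_mul, map_mul, map_inv] at e2
      have hd : ∀ u, pm9 X333 u ≠ u := by decide +kernel
      apply hd (((f k : alternatingGroup (Fin 9)) : Equiv.Perm (Fin 9)) w)
      rw [← e2]
      simp only [Subgroup.coe_mul, Subgroup.coe_inv, Equiv.Perm.mul_apply, Equiv.Perm.coe_inv, Equiv.symm_apply_apply]
      exact congrArg _ hw
  have := Nat.card_le_card_of_injective (fun v : V => π v 0) fun v w e => by
    have : w⁻¹ * v = 1 := nofix _ 0 (by
      rw [map_mul, map_inv, Equiv.Perm.mul_apply, Equiv.Perm.inv_eq_iff_eq]; exact e)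
    exact (inv_mul_eq_one.1 this).symm
  simpa using this

/-- **a pure 3B subgroup of order nine is not centralised by a group of order eight** -/
theorem not8 {V : Subgroup Th} (h : EA V) (h9 : Nat.card V = 9) (hB : ∀ v ∈ V, v ≠ 1 → IsConj xB v) :
    ¬ 8 ∣ Nat.card (centralizer (V : Set Th)) := by
  haveI := finTh
  haveI : Fact (Nat.Prime 2) := ⟨Nat.prime_two⟩
  intro h8
  obtain ⟨S, hS, hS8⟩ := exists_sub (p := 2) (k := 3) Nat.prime_two h8
  have hp : IsPGroup 2 S := IsPGroup.of_card hS8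
  haveI : Nontrivial S := Finite.one_lt_card_iff_nontrivial.1 (by rw [hS8]; norm_num)
  haveI := hp.center_nontrivial
  obtain ⟨⟨⟨s, hsS⟩, hsZ⟩, hs⟩ := exists_prime_orderOf_dvd_card' (G := center S) 2 (by
    obtain ⟨n, hn, e⟩ := (hp.to_subgroup (center S)).nontrivial_iff_card.1 inferInstance
    rw [e]; exact dvd_pow_self 2 hn.ne')
  rw [Subgroup.orderOf_mk, Subgroup.orderOf_mk] at hs
  have hsc : ∀ y ∈ S, s * y = y * s := fun y hy => (congrArg Subtype.val (mem_center_iff.1 hsZ ⟨y, hy⟩)).symm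
  obtain ⟨g, hg⟩ := Cfsg.Agent.H495.SprThRep.hone s hs
  let K := Cfsg.Agent.H777.Th3.cj (Q0 gTh) g
  have hK : ∀ y, s * y = y * s → y ∈ normalizer (K : Set Th) := fun y hy => mem_normalizer_fintype fun q hq => by
    have := ctx.Q_conj (inv_mem (mem_C_of hg hy)) (Cfsg.Agent.H777.Th3.mem_cj.1 hq)
    change g * (y * q * y⁻¹) * g⁻¹ ∈ Q0 gTh
    simpa [mul_assoc] using this
  have hKc : Nat.card K = 512 := by rw [Cfsg.Agent.H777.Th3.card_cj, ctx.cardQ]
  haveI : IsMulCommutative V := ⟨⟨fun a b => Subtype.ext (h.comm _ a.2 _ b.2)⟩⟩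
  have hgen := Cfsg.Agent.S0058.result V K (fun hc => by
      obtain ⟨x, hx⟩ := hc.exists_generator
      have h1 := orderOf_eq_card_of_forall_mem_zpowers hx
      have h2 := orderOf_dvd_of_pow_eq_one (show x ^ 3 = 1 from Subtype.ext (h.pow x x.2))
      rw [h1, h9] at h2
      norm_num at h2)
    (fun v hv => hK v (hS hsS v hv).symm) (by rw [h9, hKc]; norm_num)
  have hle : K ≤ S := by
    rw [← hgen]
    refine iSup₂_le fun v ⟨hv, hv1⟩ => ?_
    have hSv : S ≤ centralizer {v} := fun y hy => mem_centralizer_singleton_iff.2 (hS hy v hv).symm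
    have hn : S ≤ normalizer ((K ⊓ centralizer {v} : Subgroup Th) : Set Th) := fun y hy =>
      mem_normalizer_fintype fun q hq => ⟨(mem_normalizer_iff.1 (hK y (hsc y hy)) q).1 hq.1,
        (centralizer {v}).mul_mem ((centralizer {v}).mul_mem (hSv hy) hq.2) ((centralizer {v}).inv_mem (hSv hy))⟩
    have hp2 : IsPGroup 2 (K ⊓ centralizer {v} : Subgroup Th) :=
      (IsPGroup.of_card (n := 9) (hKc.trans (by norm_num))).to_le inf_le_left
    obtain ⟨n, hn'⟩ := IsPGroup.iff_card.1 (hp.to_sup_of_normal_right' hp2 hn)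
    have hd := card_dvd_of_le (sup_le hSv inf_le_right : S ⊔ (K ⊓ centralizer {v}) ≤ centralizer {v})
    rw [hn', ← card_cent_isConj (hB v hv hv1)] at hd
    have h3 : n ≤ 3 := by
      by_contra h4
      exact two_B ((pow_dvd_pow 2 (show 4 ≤ n by omega)).trans hd)
    have e : S = S ⊔ (K ⊓ centralizer {v}) := eq_of_le_of_card_ge le_sup_left (by
      rw [hn', hS8]; exact Nat.pow_le_pow_right (by norm_num) h3)
    exact le_sup_right.trans e.ge
  have := card_le_of_le hle
  rw [hKc, hS8] at this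
  norm_num at this

/-- an element of order four commuting with an element of class 3C -/
theorem four_C {u c : Th} (hu : orderOf u = 4) (hc : IsConj xC c) (huc : u * c = c * u) :
    ¬ 3 ^ 2 ∣ Nat.card (centralizer ({u} : Set Th)) := by
  obtain ⟨f, F⟩ := exists_epi ctx
  obtain ⟨g, hg, h | h | h⟩ := pairConj (s := u ^ 2) (by rw [orderOf_pow' _ (by norm_num), hu]; rfl)
    ((isConj_order hc).trans oC) (Commute.pow_left huc 2).eq
  · have h1 : (g * u * g⁻¹) ^ 2 = gTh 1 := by rw [conj_pow]; exact hg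
    have ho : orderOf (g * u * g⁻¹) = 4 := (isConj_order (isConj_iff.2 ⟨g, rfl⟩)).trans hu
    rcases Cfsg.Agent.H653.ThE.four ctx F h1 with ⟨k, hk, e⟩ | ⟨k, -, e⟩
    · exfalso
      have hq : g * u * g⁻¹ ∈ Q0 gTh := by
        have := ctx.Q_conj (inv_mem hk) (Cfsg.Agent.H653.ThE.ι_mem ctx 510)
        rwa [inv_inv, ← Cfsg.Agent.H653.ThE.wd1_eq ctx, e] at this
      have hcm : g * u * g⁻¹ * ev gTh X3 = ev gTh X3 * (g * u * g⁻¹) := by
        change _ * xC = xC * _
        rw [← h]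
        calc g * u * g⁻¹ * (g * c * g⁻¹) = g * (u * c) * g⁻¹ := by group
          _ = _ := by rw [huc]; group
      rcases inv_ker ctx chk3 fix3 hq hcm with e1 | e1
      · rw [e1, orderOf_one] at ho; omega
      · have := orderOf_dvd_of_pow_eq_one (show gTh 1 ^ 2 = 1 by rw [pow_two, ctx.aa])
        rw [← e1, ho] at this
        norm_num at this
    · exact Cfsg.Agent.H653.ThE.c4B ((isConj_iff.2 ⟨k, e⟩).trans (isConj_iff.2 ⟨g, rfl⟩ : IsConj u _).symm)
  · exact absurd (hc.trans (isConj_iff.2 ⟨g, h⟩)).symm not_conj_AC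
  · exact absurd (hc.trans (isConj_iff.2 ⟨g, h⟩)).symm not_conj_BC

end Cfsg.Agent.SP.NTh.Three
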