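import Cfsg.Agent.SP.NTh.Three.Inv

/-! # S5755, row `Th`: normalisers of points and of pure 3B lines (helper23) -/

set_option autoImplicit false
set_option linter.style.haveILetI false
set_option synthInstance.maxHeartbeats 400000
set_option synthInstance.maxSize 2000

namespace Cfsg.Agent.SP.NTh.Three

open Subgroup Cfsg.Agent.SP Cfsg.Agent.H777.Th3 Cfsg.Agent.H777.Th3.Dat Cfsg.Agent.H502.TO Cfsg.Agent.SP.NTh

section generic

variable {T : Type*} [Group T]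

theorem ncard_le_fib {α ι : Type*} {Y : Set α} (hY : Y.Finite) (f : α → ι) (s : Finset ι) (n : ℕ) (hf : ∀ a ∈ Y, f a ∈ s)
    (hn : ∀ i ∈ s, {a ∈ Y | f a = i}.ncard ≤ n) : Y.ncard ≤ s.card * n := by
  classical
  rw [Set.ncard_eq_toFinset_card Y hY, mul_comm]
  refine (Finset.card_le_mul_card_image (f := f) _ n fun i hi => ?_).trans
    (Nat.mul_le_mul_left _ (Finset.card_le_card fun i hi => ?_))
  · obtain ⟨a, ha, rfl⟩ := Finset.mem_image.1 hi
    refine le_trans (le_of_eq ?_) (hn _ (hf a (by simpa using ha)))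
    rw [← Set.ncard_coe_finset]
    congr 1
    ext b; simp
  · obtain ⟨a, ha, rfl⟩ := Finset.mem_image.1 hi
    exact hf a (by simpa using ha)

theorem ncard_le_coset [Finite T] {Y : Set T} {D : Subgroup T} (h : ∀ a ∈ Y, ∀ b ∈ Y, a⁻¹ * b ∈ D) :
    Y.ncard ≤ Nat.card D := by
  rcases Y.eq_empty_or_nonempty with rfl | ⟨c, hc⟩
  · simp
  rw [← Set.ncard_image_of_injective Y (mul_right_injective c⁻¹)]
  refine ncard_le_card_subgroup ?_
  rintro _ ⟨x, hx, rfl⟩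
  exact h c hc x hx

/-- `x ^ i * y ^ j` -/
def ph (x y : T) (m : ZMod 3 × ZMod 3) : T := x ^ m.1.val * y ^ m.2.val

/-- a basis of an elementary abelian group of order nine -/
structure Ind (x y : T) : Prop where
  hx : x ^ 3 = 1
  hy : y ^ 3 = 1
  comm : x * y = y * x
  x1 : x ≠ 1
  y1 : y ≠ 1
  yx : y ≠ x
  yx' : y ≠ x⁻¹

theorem ph_add {x y : T} (hx : x ^ 3 = 1) (hy : y ^ 3 = 1) (hc : x * y = y * x) (m n : ZMod 3 × ZMod 3) :
    ph x y (m + n) = ph x y m * ph x y n := by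
  unfold ph
  rw [Prod.fst_add, Prod.snd_add, pw_add hx, pw_add hy]
  exact mul4 (Commute.pow_pow hc.symm _ _)

/-- the homomorphism -/
def Ind.hom {x y : T} (h : Ind x y) : Multiplicative (ZMod 3 × ZMod 3) →* T where
  toFun m := ph x y m.toAdd
  map_one' := by simp [ph]
  map_mul' _ _ := ph_add h.hx h.hy h.comm _ _

theorem ph_10 (x y : T) : ph x y (1, 0) = x := by simp [ph, ZMod.val_one]

theorem ph_01 (x y : T) : ph x y (0, 1) = y := by simp [ph, ZMod.val_one]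

theorem sq_eq_inv {x : T} (h : x ^ 3 = 1) : x ^ 2 = x⁻¹ := by rw [eq_inv_iff_mul_eq_one, ← pow_succ, h]

theorem Ind.inj {x y : T} (h : Ind x y) : Function.Injective (ph x y) := by
  have : Function.Injective h.hom := by
    rw [injective_iff_map_eq_one]
    rintro ⟨i, j⟩ e
    change x ^ i.val * y ^ j.val = 1 at e
    rcases three_cases i with rfl | rfl | rfl <;> rcases three_cases j with rfl | rfl | rfl <;>
      simp only [ZMod.val_zero, ZMod.val_one, val_two, pow_zero, pow_one, one_mul, mul_one, sq_eq_inv h.hx,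
        sq_eq_inv h.hy, inv_eq_one, mul_inv_eq_one, inv_mul_eq_one] at e
    · rfl
    · exact absurd e h.y1
    · exact absurd e h.y1
    · exact absurd e h.x1
    · exact absurd (eq_inv_of_mul_eq_one_right e) h.yx'
    · exact absurd e.symm h.yx
    · exact absurd e h.x1
    · exact absurd e.symm h.yx
    · exact absurd e.symm h.yx'
  exact fun m n e => this e

theorem Ind.card {x y : T} (h : Ind x y) : Nat.card h.hom.range = 9 := by
  rw [← Nat.card_congr (MonoidHom.ofInjective (f := h.hom) fun m n e => h.inj e).toEquiv]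
  simp

theorem Ind.range_le {x y : T} (h : Ind x y) {H : Subgroup T} (hx : x ∈ H) (hy : y ∈ H) : h.hom.range ≤ H := by
  rintro _ ⟨m, rfl⟩
  exact mul_mem (pow_mem hx _) (pow_mem hy _)

theorem Ind.nine {x y : T} (h : Ind x y) {H : Subgroup T} (hx : x ∈ H) (hy : y ∈ H) : 9 ∣ Nat.card H :=
  h.card ▸ card_dvd_of_le (h.range_le hx hy)

theorem Ind.surj [Finite T] {x y : T} (h : Ind x y) {V : Subgroup T} (hx : x ∈ V) (hy : y ∈ V) (h9 : Nat.card V = 9)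
    {v : T} (hv : v ∈ V) : ∃ m, v = ph x y m := by
  rw [← eq_of_le_of_card_ge (h.range_le hx hy) (by rw [h9, h.card])] at hv
  obtain ⟨m, rfl⟩ := hv
  exact ⟨_, rfl⟩

theorem Ind.nsmul {x y : T} (h : Ind x y) (n : ℕ) (m : ZMod 3 × ZMod 3) : ph x y (n • m) = ph x y m ^ n :=
  map_pow h.hom (Multiplicative.ofAdd m) n

theorem Ind.neg {x y : T} (h : Ind x y) (m : ZMod 3 × ZMod 3) : ph x y (-m) = (ph x y m)⁻¹ :=
  map_inv h.hom (Multiplicative.ofAdd m)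

theorem exists_other [Finite T] {V : Subgroup T} (h : 3 < Nat.card V) (x : T) : ∃ y ∈ V, y ≠ 1 ∧ y ≠ x ∧ y ≠ x⁻¹ := by
  by_contra hc
  push Not at hc
  have : (V : Set T) ⊆ {1, x, x⁻¹} := fun y hy => by
    by_cases h1 : y = 1
    · exact Or.inl h1
    by_cases h2 : y = x
    · exact Or.inr (Or.inl h2)
    · exact Or.inr (Or.inr (hc y hy h1 h2))
  have h1 := Set.ncard_le_ncard this
  have h2 : ({1, x, x⁻¹} : Set T).ncard ≤ 3 :=
    (Set.ncard_insert_le _ _).trans (Nat.succ_le_succ ((Set.ncard_insert_le _ _).trans (by simp)))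
  have h3 : (V : Set T).ncard = Nat.card V := rfl
  omega

/-- `A` normalises `V` -/
def Nm (A V : Subgroup T) : Prop := ∀ a ∈ A, ∀ v ∈ V, a * v * a⁻¹ ∈ V

theorem Nm.cj {A V : Subgroup T} (h : Nm A V) (g : T) : Nm (cj A g) (cj V g) := fun a ha v hv => by
  have := h _ (mem_cj.1 ha) _ (mem_cj.1 hv)
  rw [mem_cj]
  simpa [mul_assoc] using this

/-- `A` is the first member of a pair -/
def PA (A : Subgroup T) : Prop := ∃ B, IsPair A B

theorem PA.cj {A : Subgroup T} (h : PA A) (g : T) : PA (cj A g) := by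
  obtain ⟨B, h⟩ := h
  have e : Cfsg.Agent.H777.Th3.cj A g = A.map (MulAut.conj g⁻¹).toMonoidHom := by
    ext x; rw [mem_cj, mem_map_conj, inv_inv]
  exact ⟨_, e ▸ h.conj g⁻¹⟩

theorem pow_inv_inv {x y : T} {n : ℕ} (h : (x * y) ^ n = 1) : (x⁻¹ * y⁻¹) ^ n = 1 := by
  rw [show x⁻¹ * y⁻¹ = x⁻¹ * (x * y)⁻¹ * x⁻¹⁻¹ by group, conj_pow, inv_pow, h]; simp

end generic

/-- pure 3B -/
def PureB (V : Subgroup Th) : Prop := ∀ v ∈ V, v ≠ 1 → IsConj xB v

theorem PureB.cj {V : Subgroup Th} (h : PureB V) (g : Th) : PureB (cj V g) := fun v hv h1 =>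
  (h _ (mem_cj.1 hv) (NegS.conj_ne_one h1)).trans (isConj_iff.2 ⟨g, rfl⟩ : IsConj v _).symm

/-- the thresholds -/
theorem kill' {A : Subgroup Th} (h : PA A) (hA : Nat.card A ≤ 10000000) (h2 : nOrd A 2 ≤ 31254) (h3 : nOrd A 3 ≤ 116000) :
    False := by
  haveI := finTh
  obtain ⟨B, h⟩ := h
  have h1 : ∀ r, nOrd A r ≤ 10000000 := fun r => (ncard_le_card_subgroup fun _ hx => hx.1).trans hA
  have h4 : ∀ y, orderOf y = 3 → nCls A y ^ 2 ≤ 116000 ^ 2 := fun y hy =>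
    Nat.pow_le_pow_left (le_trans (Set.ncard_le_ncard (t := {x : Th | x ∈ A ∧ orderOf x = 3})
      fun x hx => ⟨hx.1, (isConj_order hx.2).trans hy⟩) h3) 2
  obtain ⟨r, hr, hd⟩ := h.exists_prime
  by_cases h11 : 11 ≤ r
  · have := thr.big h r hr h11 hd
    have := h1 r
    omega
  · have h5 : ∀ r < 11, r.Prime → r = 2 ∨ r = 3 ∨ r = 5 ∨ r = 7 := by decide
    rcases h5 r (by omega) hr with rfl | rfl | rfl | rfl
    · have := thr.two h hd
      omega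
    · have := thr.three h hd
      have := h4 xA oA
      have := h4 xB oB
      have := h4 xC oC
      omega
    · have := thr.five h hd
      have := h1 5
      omega
    · have := thr.seven h hd
      have := h1 7
      omega

theorem triv31 {x y a : Th} (hx : orderOf x = 3) (h : orderOf (x * y) = 31)
    (ha : (a * x * a⁻¹ = x ∧ a * y * a⁻¹ = y) ∨ (a * x * a⁻¹ = x⁻¹ ∧ a * y * a⁻¹ = y⁻¹)) : a = 1 := by
  haveI := finTh
  have e : a * (x * y) * a⁻¹ = a * x * a⁻¹ * (a * y * a⁻¹) := by group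
  rcases ha with ⟨h1, h2⟩ | ⟨h1, h2⟩
  · rw [h1, h2, mul_inv_eq_iff_eq_mul] at e
    have := orderOf_dvd_natCard (⟨a, mem_centralizer_singleton_iff.2 e⟩ : centralizer ({x * y} : Set Th))
    rw [c31 h, Subgroup.orderOf_mk] at this
    rcases (Nat.dvd_prime (by norm_num)).1 this with h3 | h3
    · exact orderOf_eq_one_iff.1 h3
    · have := orderOf_dvd_natCard
        (⟨x, mem_centralizer_singleton_iff.2 (mul_inv_eq_iff_eq_mul.1 h1).symm⟩ : centralizer ({a} : Set Th))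
      rw [c31 h3, Subgroup.orderOf_mk, hx] at this
      norm_num at this
  · refine absurd ?_ (Cfsg.Agent.H653.ThE.nr31 (x * y) (x * a) h)
    calc x * a * (x * y) * (x * a)⁻¹ = x * (a * (x * y) * a⁻¹) * x⁻¹ := by group
      _ = _ := by rw [e, h1, h2]; group

theorem noPt0 {A : Subgroup Th} (h : PA A) {x g : Th} (hx : orderOf x = 3)
    (hc : orderOf (x * (g⁻¹ * x * g)) = 31 ∧ (x * (g⁻¹ * x * g) ^ 2) ^ 31 ≠ 1)
    (hA : ∀ a ∈ A, a * x * a⁻¹ = x ∨ a * x * a⁻¹ = x⁻¹) : False := by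
  obtain ⟨B, h⟩ := h
  obtain ⟨a, ha, hat, haB⟩ := h.exists_not_mem g⁻¹
  have hy : a * (g⁻¹ * x * g) * a⁻¹ = g⁻¹ * (g⁻¹⁻¹ * a * g⁻¹ * x * (g⁻¹⁻¹ * a * g⁻¹)⁻¹) * g := by group
  have h3 : (g⁻¹ * x * g) ^ 3 = 1 := by rw [← conj_pow', ← hx, pow_orderOf_eq_one]; group
  rw [sq_eq_inv h3] at hc
  have h31 : (a * x * a⁻¹ * (a * (g⁻¹ * x * g) * a⁻¹)) ^ 31 = 1 := by
    rw [show a * x * a⁻¹ * (a * (g⁻¹ * x * g) * a⁻¹) = a * (x * (g⁻¹ * x * g)) * a⁻¹ by group, conj_pow, ← hc.1,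
      pow_orderOf_eq_one]
    group
  have e : g⁻¹ * x⁻¹ * g = (g⁻¹ * x * g)⁻¹ := by group
  refine haB (triv31 (a := a) hx hc.1 ?_ ▸ B.one_mem)
  rcases hA a ha with h1 | h1 <;> rcases hA _ hat with h2 | h2 <;> rw [h2] at hy
  · exact Or.inl ⟨h1, hy⟩
  · rw [h1, hy, e] at h31; exact absurd h31 hc.2
  · rw [h1, hy] at h31
    have := pow_inv_inv h31
    rw [inv_inv] at this
    exact absurd this hc.2
  · exact Or.inr ⟨h1, hy.trans e⟩

/-- **no pair normalises a subgroup of order three** -/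
theorem noPt {A : Subgroup Th} (h : PA A) {x : Th} (hx : orderOf x = 3)
    (hA : ∀ a ∈ A, a * x * a⁻¹ = x ∨ a * x * a⁻¹ = x⁻¹) : False := by
  have key : ∀ {y : Th}, IsConj y x → ∀ g, orderOf (y * (g⁻¹ * y * g)) = 31 ∧ (y * (g⁻¹ * y * g) ^ 2) ^ 31 ≠ 1 → False := by
    intro y hy g hc
    have ho := (isConj_order hy.symm).trans hx
    obtain ⟨k, rfl⟩ := isConj_iff.1 hy
    refine noPt0 (h.cj k) ho hc fun a ha => ?_
    have e : a * y * a⁻¹ = k⁻¹ * (k * a * k⁻¹ * (k * y * k⁻¹) * (k * a * k⁻¹)⁻¹) * k := by group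
    rcases hA _ (mem_cj.1 ha) with h1 | h1 <;> rw [h1] at e
    · exact Or.inl (e.trans (by group))
    · exact Or.inr (e.trans (by group))
  rcases cls3 hx with e | e | e
  · exact key (y := thDat.u4) (u4_eq.symm ▸ e) _ (ck1_spec (rep_at .u4) ckA)
  · exact key (isB_u1.symm.trans e) _ (ck1_spec (rep_at .u1) ckB)
  · exact key (isC_u3.symm.trans e) _ (ck1_spec (rep_at .u3) ckC)

theorem ph_uu (m : ZMod 3 × ZMod 3) : ph thDat.u1 thDat.u2 m = thDat.uu (wv m) := by simp [ph, uu, wv]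

theorem indW : Ind thDat.u1 thDat.u2 := by
  have k : ∀ {e f : V5}, e ≠ f → thDat.uu e ≠ thDat.uu f := fun h e => h (uu_injective th_u1_ne e)
  refine ⟨thDat.c1, thDat.c2, thDat.k12, th_u1_ne, ?_, ?_, ?_⟩
  · rw [← uu_2, ← thDat.uu_zero]; exact k (by decide)
  · rw [← uu_2, ← uu_1]; exact k (by decide)
  · rw [← uu_2, ← uu_1, ← uu_neg]; exact k (by decide)

theorem certW : ∃ g : Th, orderOf (thDat.u1 * thDat.u2 * ((g⁻¹ * thDat.u2 * g) * (g⁻¹ * thDat.u2 * g))) = 31 ∧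
    ∀ i j k l : ℕ, (((i = 0 ∧ j = 1) ∨ (i = 1 ∧ j = 0) ∨ (i = 1 ∧ j = 2)) ∧ (k, l) ∈ l8) ∨
      ((i = 1 ∧ j = 1) ∧ (k, l) ∈ [(0, 1), (1, 0), (1, 1), (1, 2), (2, 0), (2, 1), (2, 2)]) →
      (thDat.u1 ^ i * thDat.u2 ^ j * ((g⁻¹ * thDat.u1 * g) ^ k * (g⁻¹ * thDat.u2 * g) ^ l)) ^ 31 ≠ 1 := by
  refine ⟨el gW, W31, ?_⟩
  rintro i j k l (⟨⟨rfl, rfl⟩ | ⟨rfl, rfl⟩ | ⟨rfl, rfl⟩, h⟩ | ⟨⟨rfl, rfl⟩, h⟩)
  · exact ckW_spec (p := (k, l)) ckW01 h
  · exact ckW_spec (p := (k, l)) ckW10 h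
  · exact ckW_spec (p := (k, l)) ckW12 h
  · exact ckW_spec (p := (k, l)) ckW11 h

/-- **no pair normalises `W`** -/
theorem noW {A V : Subgroup Th} (h : PA A) (hN : Nm A V) (h9 : Nat.card V = 9) (h1 : thDat.u1 ∈ V) (h2 : thDat.u2 ∈ V) :
    False := by
  haveI := finTh
  obtain ⟨B, h⟩ := h
  obtain ⟨g, W31, hck⟩ := certW
  obtain ⟨a, ha, hat, haB⟩ := h.exists_not_mem g⁻¹
  let w := ph thDat.u1 thDat.u2
  have hw : ∀ m, w m ∈ V := fun m => indW.range_le h1 h2 ⟨Multiplicative.ofAdd m, rfl⟩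
  have chk : ∀ m n : ZMod 3 × ZMod 3, (m = (0, 1) ∨ m = (1, 0) ∨ m = (1, 2) ∨ m = (1, 1)) → n ≠ 0 →
      (w m * (g⁻¹ * w n * g)) ^ 31 = 1 → m = (1, 1) ∧ n = (0, 2) := by
    intro m n hm hn e
    have e2 : g⁻¹ * w n * g = (g⁻¹ * thDat.u1 * g) ^ n.1.val * (g⁻¹ * thDat.u2 * g) ^ n.2.val := by
      rw [← conj_pow', ← conj_pow']; simp only [w, ph]; group
    rw [e2] at e
    have hd : ∀ m n : ZMod 3 × ZMod 3, (m = (0, 1) ∨ m = (1, 0) ∨ m = (1, 2) ∨ m = (1, 1)) → n ≠ 0 →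
      (m = (1, 1) ∧ n = (0, 2)) ∨
      (((m.1.val = 0 ∧ m.2.val = 1) ∨ (m.1.val = 1 ∧ m.2.val = 0) ∨ (m.1.val = 1 ∧ m.2.val = 2)) ∧ (n.1.val, n.2.val) ∈ l8) ∨
      ((m.1.val = 1 ∧ m.2.val = 1) ∧ (n.1.val, n.2.val) ∈ [(0, 1), (1, 0), (1, 1), (1, 2), (2, 0), (2, 1), (2, 2)]) := by
      decide +kernel
    exact (hd m n hm hn).resolve_right fun h => hck _ _ _ _ h e
  have h31 : orderOf (w (1, 1) * (g⁻¹ * w (0, 2) * g)) = 31 := by
    rw [← W31]
    congr 1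
    simp only [w, ph, ZMod.val_one, ZMod.val_zero, val_two, pow_one, pow_zero, one_mul, pow_two]
    group
  obtain ⟨m, hm⟩ := indW.surj h1 h2 h9 (hN a ha _ (hw (1, 1)))
  obtain ⟨n, hn⟩ := indW.surj h1 h2 h9 (hN _ hat _ (hw (0, 2)))
  have w0 : ∀ {m}, m ≠ 0 → w m ≠ 1 := fun hm e => hm (indW.inj (e.trans (by simp [ph])))
  have hm0 : m ≠ 0 := by
    rintro rfl
    exact NegS.conj_ne_one (w0 (by decide)) (hm.trans (by simp [ph]))
  have hn0 : n ≠ 0 := by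
    rintro rfl
    exact NegS.conj_ne_one (w0 (by decide)) (hn.trans (by simp [ph]))
  have hy : a * (g⁻¹ * w (0, 2) * g) * a⁻¹ = g⁻¹ * w n * g := by
    change _ = g⁻¹ * ph _ _ n * g
    rw [← hn]; group
  have e : (w m * (g⁻¹ * w n * g)) ^ 31 = 1 := by
    change (ph _ _ m * _) ^ 31 = 1
    rw [← hm, ← hy, show a * w (1, 1) * a⁻¹ * (a * (g⁻¹ * w (0, 2) * g) * a⁻¹) =
      a * (w (1, 1) * (g⁻¹ * w (0, 2) * g)) * a⁻¹ by group, conj_pow, ← h31, pow_orderOf_eq_one]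
    group
  have ho : orderOf (w (1, 1)) = 3 := by
    change orderOf (ph _ _ _) = 3
    rw [ph_uu]; exact o_uu (by decide)
  refine haB (triv31 (a := a) ho h31 ?_ ▸ B.one_mem)
  have hd : ∀ m : ZMod 3 × ZMod 3, m ≠ 0 → (m = (0, 1) ∨ m = (1, 0) ∨ m = (1, 2) ∨ m = (1, 1)) ∨
    (-m = (0, 1) ∨ -m = (1, 0) ∨ -m = (1, 2) ∨ -m = (1, 1)) := by decide
  rcases hd m hm0 with q | q
  · obtain ⟨rfl, rfl⟩ := chk m n q hn0 e
    exact Or.inl ⟨hm, hy⟩
  · have e' := pow_inv_inv e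
    have e3 : (g⁻¹ * w n * g)⁻¹ = g⁻¹ * w (-n) * g := by
      simp only [w]
      rw [indW.neg]; group
    rw [e3, ← indW.neg] at e'
    obtain ⟨q1, q2⟩ := chk _ _ q (neg_ne_zero.2 hn0) e'
    obtain rfl := neg_eq_iff_eq_neg.1 q1
    obtain rfl := neg_eq_iff_eq_neg.1 q2
    refine Or.inr ⟨hm.trans (indW.neg _), hy.trans ?_⟩
    simp only [w]
    rw [indW.neg]; group

end Cfsg.Agent.SP.NTh.Three
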