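import Cfsg.Agent.SP.NTh.Three.Kill

/-! # S5755, row `Th`: normalisers of pure 3B subgroups (helper23) -/

set_option autoImplicit false
set_option linter.style.haveILetI false
set_option synthInstance.maxHeartbeats 400000
set_option synthInstance.maxSize 2000

namespace Cfsg.Agent.SP.NTh.Three

open Subgroup Cfsg.Agent.SP Cfsg.Agent.H777.Th3 Cfsg.Agent.H777.Th3.Dat Cfsg.Agent.H502.TO Cfsg.Agent.SP.NTh

section generic

variable {T : Type*} [Group T]

/-- action of a matrix -/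
def ac (M : F2 × F2) (m : F2) : F2 := m.1.val • M.1 + m.2.val • M.2

theorem Ind.conj {x y a : T} (h : Ind x y) {M : F2 × F2} (h1 : a * x * a⁻¹ = ph x y M.1)
    (h2 : a * y * a⁻¹ = ph x y M.2) (m : F2) : a * ph x y m * a⁻¹ = ph x y (ac M m) := by
  rw [ac, ph_add h.hx h.hy h.comm, h.nsmul, h.nsmul, ← h1, ← h2, conj_pow, conj_pow]
  simp only [ph]
  group

theorem exists_big [Finite T] {V H : Subgroup T} (hVH : V ≤ H) (hV : IsPGroup 3 V) {k : ℕ} (hk : 3 ^ k ∣ Nat.card H) :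
    ∃ R : Subgroup T, V ≤ R ∧ R ≤ H ∧ IsPGroup 3 R ∧ 3 ^ k ≤ Nat.card R := by
  haveI : Fact (Nat.Prime 3) := ⟨Nat.prime_three⟩
  obtain ⟨Q, hQ⟩ := (hV.comap_subtype (K := H)).exists_le_sylow
  refine ⟨(Q : Subgroup H).map H.subtype, fun v hv => ⟨⟨v, hVH hv⟩, hQ hv, rfl⟩, map_subtype_le _,
    Q.isPGroup'.map _, ?_⟩
  rw [card_map_of_injective H.subtype_injective]
  exact Nat.le_of_dvd Nat.card_pos (Q.pow_dvd_card_of_pow_dvd_card hk)

theorem Nm.cent {A V : Subgroup T} (h : Nm A V) : Nm A (centralizer (V : Set T)) := fun a ha c hc v hv => by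
  have := hc _ (h _ (inv_mem ha) v hv)
  calc v * (a * c * a⁻¹) = a * (a⁻¹ * v * a⁻¹⁻¹ * c) * a⁻¹ := by group
    _ = _ := by rw [this]; group

theorem conj_cube {a z : T} (ha : a ^ 3 = 1) : a * (a * (a * z * a⁻¹) * a⁻¹) * a⁻¹ = z := by
  calc _ = a ^ 3 * z * (a ^ 3)⁻¹ := by simp only [pow_succ, pow_zero, one_mul]; group
    _ = z := by rw [ha]; group

theorem conj_sq {a z : T} (ha : a ^ 2 = 1) : a * (a * z * a⁻¹) * a⁻¹ = z := by
  calc _ = a ^ 2 * z * (a ^ 2)⁻¹ := by simp only [pow_succ, pow_zero, one_mul]; group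
    _ = z := by rw [ha]; group

end generic

theorem EA.ind {V : Subgroup Th} (h : EA V) {x y : Th} (hx : x ∈ V) (hy : y ∈ V) (x1 : x ≠ 1) (y1 : y ≠ 1) (yx : y ≠ x)
    (yx' : y ≠ x⁻¹) : Ind x y := ⟨h.pow x hx, h.pow y hy, h.comm x hx y hy, x1, y1, yx, yx'⟩

theorem EA.le_cent {V : Subgroup Th} (h : EA V) : V ≤ centralizer (V : Set Th) := fun v hv w hw => h.comm w hw v hv

theorem cent_dvd_B {V : Subgroup Th} {x : Th} (hx : x ∈ V) (hB : IsConj xB x) :
    Nat.card (centralizer (V : Set Th)) ∣ 472392 := by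
  refine (card_dvd_of_le (centralizer_le (Set.singleton_subset_iff.2 hx))).trans ?_
  rw [← card_cent_isConj hB]
  exact cB

theorem dec_ac3 : (Finset.univ.filter fun M : F2 × F2 =>
    ac M (ac M M.1) = (1, 0) ∧ ac M (ac M M.2) = (0, 1)).card = 9 := by decide +kernel

theorem dec_ac2 : ∀ M : F2 × F2, ac M M.1 = (1, 0) → ac M M.2 = (0, 1) → M = ((2, 0), (0, 2)) ∨
    ac M (1, 0) = (1, 0) ∨ ac M (0, 1) = (0, 1) ∨ ac M (1, 1) = (1, 1) ∨ ac M (1, 2) = (1, 2) := by decide +kernel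

/-- pure 3B lines with small centraliser -/
theorem line_small {A V : Subgroup Th} (h : PA A) (hE : EA V) (h9 : Nat.card V = 9) (hB : PureB V) (hN : Nm A V)
    (h8 : ¬ 3 ^ (7 + 1) ∣ Nat.card (centralizer (V : Set Th))) : False := by
  haveI := finTh
  obtain ⟨x, hx, x1, -⟩ := exists_other (V := V) (by omega) 1
  obtain ⟨y, hy, y1, yx, yx'⟩ := exists_other (V := V) (by omega) x
  have hI := hE.ind hx hy x1 y1 yx yx'
  have hd := cent_dvd_B hx (hB x hx x1)
  have nd : ∀ {p : ℕ}, ¬ p ∣ 472392 → ¬ p ∣ Nat.card (centralizer (V : Set Th)) := fun hp e => hp (e.trans hd)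
  have hC : Nat.card (centralizer (V : Set Th)) ≤ 8748 := Nat.le_of_dvd (by norm_num)
    (dvd_of_parts (a := 2) (b := 7) (c := 0) (d := 0) (e := 0) (f := 0) (g := 0) (sub_dvd _) (not8 hE h9 hB) h8
      (nd (by norm_num)) (nd (by norm_num)) (nd (by norm_num)) (nd (by norm_num)) (nd (by norm_num)))
  have hf : ∀ a : Th, ∃ M : F2 × F2, a ∈ A → a * x * a⁻¹ = ph x y M.1 ∧ a * y * a⁻¹ = ph x y M.2 := by
    intro a
    by_cases ha : a ∈ A
    · obtain ⟨m, hm⟩ := hI.surj hx hy h9 (hN a ha x hx)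
      obtain ⟨n, hn⟩ := hI.surj hx hy h9 (hN a ha y hy)
      exact ⟨(m, n), fun _ => ⟨hm, hn⟩⟩
    · exact ⟨0, fun h => absurd h ha⟩
  choose f hf using hf
  have hact : ∀ a ∈ A, ∀ m, a * ph x y m * a⁻¹ = ph x y (ac (f a) m) := fun a ha => hI.conj (hf a ha).1 (hf a ha).2
  have fib : ∀ (Y : Set Th) (M : F2 × F2), (∀ a ∈ Y, a ∈ A) → {a ∈ Y | f a = M}.ncard ≤ 8748 := by
    intro Y M hY
    refine (ncard_le_coset fun a ha b hb v hv => ?_).trans hC
    obtain ⟨m, rfl⟩ := hI.surj hx hy h9 hv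
    refine (NegS.comm_of_conj_eq ?_).symm
    rw [hact a (hY a ha.1), hact b (hY b hb.1), ha.2, hb.2]
  refine kill' h ?_ ?_ ?_
  · have := ncard_le_fib (Y := (A : Set Th)) (Set.toFinite _) f Finset.univ 8748 (fun _ _ => Finset.mem_univ _)
      fun M _ => fib _ M fun _ ha => ha
    have e : (Finset.univ : Finset (F2 × F2)).card = 81 := rfl
    rw [e] at this
    exact this.trans (by norm_num)
  · let I : F2 → Set Th := fun m => {t : Th | orderOf t = 2 ∧ t * ph x y m = ph x y m * t}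
    have hI' : ∀ m ≠ 0, (I m).ncard ≤ 729 := fun m hm => iB (hB _ (hI.range_le hx hy ⟨Multiplicative.ofAdd m, rfl⟩)
      fun e => hm (hI.inj (e.trans (by simp [ph]))))
    have hs : {t : Th | t ∈ A ∧ orderOf t = 2} ⊆ {a ∈ (A : Set Th) | f a = ((2, 0), (0, 2))} ∪
        (I (1, 0) ∪ (I (0, 1) ∪ (I (1, 1) ∪ I (1, 2)))) := by
      rintro t ⟨ht, ho⟩
      have h2 : t ^ 2 = 1 := by rw [← ho, pow_orderOf_eq_one]
      have k : ∀ m, ac (f t) m = m → t ∈ I m := fun m e =>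
        ⟨ho, mul_inv_eq_iff_eq_mul.1 (by rw [hact t ht, e])⟩
      rcases dec_ac2 (f t) (hI.inj (by rw [← hact t ht, ← (hf t ht).1, conj_sq h2, ph_10]))
        (hI.inj (by rw [← hact t ht, ← (hf t ht).2, conj_sq h2, ph_01])) with e | e | e | e | e
      · exact Or.inl ⟨ht, e⟩
      · exact Or.inr (Or.inl (k _ e))
      · exact Or.inr (Or.inr (Or.inl (k _ e)))
      · exact Or.inr (Or.inr (Or.inr (Or.inl (k _ e))))
      · exact Or.inr (Or.inr (Or.inr (Or.inr (k _ e))))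
    have h0 := Set.ncard_le_ncard hs
    have h1 := Set.ncard_union_le {a ∈ (A : Set Th) | f a = ((2, 0), (0, 2))} (I (1, 0) ∪ (I (0, 1) ∪ (I (1, 1) ∪ I (1, 2))))
    have h2 := Set.ncard_union_le (I (1, 0)) (I (0, 1) ∪ (I (1, 1) ∪ I (1, 2)))
    have h3 := Set.ncard_union_le (I (0, 1)) (I (1, 1) ∪ I (1, 2))
    have h4 := Set.ncard_union_le (I (1, 1)) (I (1, 2))
    have h5 := fib (A : Set Th) ((2, 0), (0, 2)) fun _ ha => ha
    have := hI' (1, 0) (by decide)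
    have := hI' (0, 1) (by decide)
    have := hI' (1, 1) (by decide)
    have := hI' (1, 2) (by decide)
    unfold nOrd
    omega
  · have := ncard_le_fib (Y := {t : Th | t ∈ A ∧ orderOf t = 3}) (Set.toFinite _) f (Finset.univ.filter fun M : F2 × F2 =>
        ac M (ac M M.1) = (1, 0) ∧ ac M (ac M M.2) = (0, 1)) 8748 (fun t ⟨ht, ho⟩ => by
      have h3 : t ^ 3 = 1 := by rw [← ho, pow_orderOf_eq_one]
      exact Finset.mem_filter.2 ⟨Finset.mem_univ _,
        hI.inj (by rw [← hact t ht, ← hact t ht, ← (hf t ht).1, conj_cube h3, ph_10]),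
        hI.inj (by rw [← hact t ht, ← hact t ht, ← (hf t ht).2, conj_cube h3, ph_01])⟩)
      fun M _ => fib _ M fun _ ha => ha.1
    rw [dec_ac3] at this
    exact this.trans (by norm_num)

/-- the elements of `Vβ` -/
def Fm (e : V5) : Prop := e.2.2 = 0 ∨ e.2.2 = (2, 1, 2) ∨ e.2.2 = (1, 2, 1)

/-- subgroups centralised by a group of order `3 ^ 8` -/
theorem big_conj {V : Subgroup Th} (hE : EA V) (h8 : 3 ^ (7 + 1) ∣ Nat.card (centralizer (V : Set Th))) :
    ∃ g : Th, (∀ v ∈ cj V g, ∃ e, v = thDat.uu e ∧ Fm e) ∧ ∀ p q : ZMod 3, thDat.uu (p, q, 2, 1, 2) ∈ cj V g →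
      ∃ r ∈ thDat.Sg, r ∉ thDat.Tg ∧ ∀ v ∈ cj V g, r * v = v * r := by
  haveI := finTh
  have h1 := th_u1_ne
  obtain ⟨R, hVR, hRC, hR, hc⟩ := exists_big hE.le_cent hE.isPGroup h8
  obtain ⟨g, hg⟩ := exists_conj hR
  have hS : cj R g⁻¹ ≤ thDat.Sg := fun y hy => by simpa [mul_assoc] using hg _ (mem_cj.1 hy)
  have hcm : ∀ v ∈ cj V g⁻¹, ∀ r ∈ cj R g⁻¹, v * r = r * v := fun v hv r hr => by
    have := hRC (mem_cj.1 hr) _ (mem_cj.1 hv)
    calc v * r = g * (g⁻¹ * v * g⁻¹⁻¹ * (g⁻¹ * r * g⁻¹⁻¹)) * g⁻¹ := by group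
      _ = _ := by rw [this]; group
  rw [← card_cj R g⁻¹] at hc
  refine ⟨g⁻¹, fun v hv => form_of_large h1 (hS (hVR hv)) hS (hcm v hv) hc, fun p q hw => ?_⟩
  by_contra hn
  have hT : cj R g⁻¹ ≤ thDat.Tg := fun r hr => by
    by_contra hr'
    exact hn ⟨r, hS hr, hr', fun v hv => (hcm v hv r hr).symm⟩
  have h2 := card_le_of_Tg h1 hT (Finset.univ.filter fun q : Q4 => L q (2, 1, 2) = 0) fun r hr =>
    Finset.mem_filter.2 ⟨Finset.mem_univ _, (fix_iff h1 (hT hr) (p, q, 2, 1, 2)).1 (hcm _ hw r hr).symm⟩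
  have h3 := fix_dec1 (2, 1, 2) (by decide)
  have h4 : Nat.card (cj R g⁻¹ ⊓ thDat.U : Subgroup Th) ≤ 3 ^ 5 := card_U h1 ▸ card_le_of_le inf_le_right
  exact absurd (hc.trans (h2.trans (Nat.mul_le_mul h4 h3))) (by norm_num)

theorem exists_beta {V : Subgroup Th} (hF : ∀ v ∈ V, ∃ e, v = thDat.uu e ∧ Fm e) :
    (∀ v ∈ V, ∃ m, v = ph thDat.u1 thDat.u2 m) ∨ ∃ p q : ZMod 3, thDat.uu (p, q, 2, 1, 2) ∈ V := by
  by_cases hW : ∀ v ∈ V, ∃ m, v = ph thDat.u1 thDat.u2 m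
  · exact Or.inl hW
  push Not at hW
  obtain ⟨v, hv, hW⟩ := hW
  obtain ⟨⟨p, q, y⟩, rfl, h | h | h⟩ := hF v hv <;> obtain rfl : y = _ := h
  · exact absurd (ph_uu (p, q)).symm (hW _)
  · exact Or.inr ⟨p, q, hv⟩
  · refine Or.inr ⟨-p, -q, ?_⟩
    have := inv_mem hv
    rwa [← uu_neg] at this

theorem dec_fixW : ∀ a b c d f x y : ZMod 3, f ≠ 0 → Aq a b c d f (x, y, 0, 0, 0) = (x, y, 0, 0, 0) → y = 0 := by
  decide +kernel

/-- **no pair normalises a pure 3B line** -/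
theorem noLine {A V : Subgroup Th} (h : PA A) (hE : EA V) (h9 : Nat.card V = 9) (hB : PureB V) (hN : Nm A V) : False := by
  haveI := finTh
  have h1 := th_u1_ne
  by_cases h8 : 3 ^ (7 + 1) ∣ Nat.card (centralizer (V : Set Th))
  swap
  · exact line_small h hE h9 hB hN h8
  obtain ⟨g, hF, hr⟩ := big_conj hE h8
  replace h := h.cj g
  replace hN := hN.cj g
  rw [← card_cj V g] at h9
  generalize cj A g = A at *
  generalize cj V g = V at *
  rcases exists_beta hF with hW | ⟨p, q, hw⟩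
  · have e : V = indW.hom.range := eq_of_le_of_card_ge (fun v hv => by
      obtain ⟨m, rfl⟩ := hW v hv
      exact ⟨Multiplicative.ofAdd m, rfl⟩) (by rw [h9, indW.card])
    refine noW h hN h9 ?_ ?_ <;> rw [e]
    · exact ⟨Multiplicative.ofAdd (1, 0), ph_10 _ _⟩
    · exact ⟨Multiplicative.ofAdd (0, 1), ph_01 _ _⟩
  obtain ⟨r, hrS, hrT, hrc⟩ := hr p q hw
  have k0 : ∃ x y : ZMod 3, thDat.uu (x, y, 0, 0, 0) ∈ V ∧ thDat.uu (x, y, 0, 0, 0) ≠ 1 := by
    obtain ⟨v, hv, v1, vw, vw'⟩ := exists_other (V := V) (by omega) (thDat.uu (p, q, 2, 1, 2))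
    obtain ⟨⟨x, y, z⟩, rfl, h | h | h⟩ := hF v hv <;> obtain rfl : z = _ := h
    · exact ⟨x, y, hv, v1⟩
    · have e : thDat.uu (x - p, y - q, 0, 0, 0) = thDat.uu (x, y, 2, 1, 2) * (thDat.uu (p, q, 2, 1, 2))⁻¹ := by
        rw [← uu_neg, ← uu_add]; congr 1; simp [sub_eq_add_neg]
      exact ⟨_, _, e ▸ mul_mem hv (inv_mem hw), e ▸ fun e' => vw (mul_inv_eq_one.1 e')⟩
    · have e : thDat.uu (x + p, y + q, 0, 0, 0) = thDat.uu (x, y, 1, 2, 1) * thDat.uu (p, q, 2, 1, 2) := by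
        rw [← uu_add]; rfl
      exact ⟨_, _, e ▸ mul_mem hv hw, e ▸ fun e' => vw' (eq_inv_of_mul_eq_one_left e')⟩
  obtain ⟨x, y, hv, v1⟩ := k0
  obtain ⟨a, b, c, d, f, ha⟩ := act_of_mem_Sg hrS
  have hf : f ≠ 0 := fun e => hrT ((mem_Tg_iff_fS h1 hrS).2 ((fS_eq h1 hrS ha).trans e))
  obtain rfl := dec_fixW a b c d f x y hf (uu_injective h1 (by
    rw [← ha, mul_assoc, ← hrc _ hv, inv_mul_cancel_left]))
  have hu : thDat.u1 ∈ V := by
    rcases three_cases x with rfl | rfl | rfl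
    · exact absurd thDat.uu_zero v1
    · rwa [uu_1] at hv
    · have := inv_mem hv
      rwa [← uu_neg, show -((2, 0, 0, 0, 0) : V5) = (1, 0, 0, 0, 0) by decide, uu_1] at this
  obtain ⟨k, hk1, hk2⟩ := toW p q
  refine noW (h.cj k) (hN.cj k) (by rw [card_cj, h9]) ?_ (hk2 ▸ cj_mem hw k)
  have := inv_mem (cj_mem hu k)
  rwa [hk1, sq_eq_inv thDat.c1, inv_inv] at this

/-- the vectors of `Vβ` -/
def PF : Finset V5 := Finset.univ.filter fun e : V5 => e.2.2 = 0 ∨ e.2.2 = (2, 1, 2) ∨ e.2.2 = (1, 2, 1)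

theorem card_PF : PF.card = 27 := by decide +kernel

theorem mem_PF {e : V5} (h : Fm e) : e ∈ PF := Finset.mem_filter.2 ⟨Finset.mem_univ _, h⟩

theorem dec_Lb : ∀ c d : ZMod 3, L (0, 0, c, d) 0 = 0 ∧ L (0, 0, c, d) (2, 1, 2) = 0 ∧ L (0, 0, c, d) (1, 2, 1) = 0 := by
  decide +kernel

theorem dec_cbL : ∀ q : Q4, L q (2, 1, 2) = 0 →
    wv (cb q) = 0 ∨ wv (cb q) = (1, 0, 0, 0, 0) ∨ wv (cb q) = -(1, 0, 0, 0, 0) := by decide +kernel

theorem dec_Q0 : ∀ y : V3, y.2 = 0 → Qf y = 0 → y = 0 := by decide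

/-- the vectors of `W` -/
def PW : Finset V5 := Finset.univ.filter fun e : V5 => e.2.2 = 0

theorem card_PW : PW.card = 9 := by decide +kernel

theorem mem_PW {e : V5} (h : e.2.2 = 0) : e ∈ PW := Finset.mem_filter.2 ⟨Finset.mem_univ _, h⟩

/-- **no pair normalises `Vβ`** -/
theorem noVb {A V : Subgroup Th} (h : PA A) (hE : EA V) (hN : Nm A V) (h27 : 27 ≤ Nat.card V)
    (hF : ∀ v ∈ V, ∃ e, v = thDat.uu e ∧ Fm e) : False := by
  classical
  haveI := finTh
  haveI : Fact (Nat.Prime 3) := ⟨Nat.prime_three⟩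
  have h1 := th_u1_ne
  have hU : ∀ {V : Subgroup Th}, (∀ v ∈ V, ∃ e, v = thDat.uu e ∧ Fm e) → V ⊓ thDat.U = V := fun hF =>
    inf_eq_left.2 fun v hv => by
      obtain ⟨e, rfl, -⟩ := hF v hv
      exact thDat.uu_mem e
  have hall : ∀ e, Fm e → thDat.uu e ∈ V := by
    intro e he
    by_contra hn
    have := card_inf_U_le h1 V (PF.erase e) fun f hf => by
      obtain ⟨f', e', hf'⟩ := hF _ hf
      obtain rfl := uu_injective h1 e'
      exact Finset.mem_erase.2 ⟨fun e' => hn (e' ▸ hf), mem_PF hf'⟩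
    rw [hU hF, Finset.card_erase_of_mem (mem_PF he), card_PF] at this
    exact absurd (h27.trans this) (by norm_num)
  have h8 : ¬ 3 ^ (7 + 1) ∣ Nat.card (centralizer (V : Set Th)) := by
    intro h8
    obtain ⟨g, hF', hr⟩ := big_conj hE h8
    rw [← card_cj V g] at h27
    rcases exists_beta hF' with hW | ⟨p, q, hw⟩
    · have := card_le_of_le (show cj V g ≤ indW.hom.range from fun v hv => by
        obtain ⟨m, rfl⟩ := hW v hv
        exact ⟨Multiplicative.ofAdd m, rfl⟩)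
      rw [indW.card] at this
      exact absurd (h27.trans this) (by norm_num)
    · obtain ⟨r, hrS, hrT, hrc⟩ := hr p q hw
      have := card_fix_outside h1 hrS hrT (A := cj V g) fun a ha _ => hrc a ha
      rw [hU hF'] at this
      exact absurd (h27.trans this) (by norm_num)
  have hmem : ∀ (e : V5) (c d : ZMod 3), thDat.uu e * thDat.w4 0 0 c d ∈ thDat.Tg ⊓ centralizer (V : Set Th) := by
    intro e c d
    have hT : thDat.uu e * thDat.w4 0 0 c d ∈ thDat.Tg := (thDat.mem_Tg).2 ⟨_, _, _, _, _, rfl⟩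
    refine ⟨hT, fun v hv => ?_⟩
    obtain ⟨f, rfl, hf⟩ := hF v hv
    refine ((fix_iff h1 hT f).2 ?_).symm
    rw [qT_w4 h1]
    rcases hf with e | e | e <;> rw [e]
    exacts [(dec_Lb c d).1, (dec_Lb c d).2.1, (dec_Lb c d).2.2]
  have hP : Nat.card (thDat.Tg ⊓ centralizer (V : Set Th) : Subgroup Th) = 3 ^ 7 := by
    obtain ⟨k, hk⟩ := card_eq_pow h1 (A := thDat.Tg ⊓ centralizer (V : Set Th)) (inf_le_left.trans thDat.Tg_le_Sg)
    have h2 := Nat.card_le_card_of_injective (fun z : V5 × ZMod 3 × ZMod 3 => (⟨_, hmem z.1 z.2.1 z.2.2⟩ :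
        (thDat.Tg ⊓ centralizer (V : Set Th) : Subgroup Th))) (by
      rintro ⟨e, c, d⟩ ⟨e', c', d'⟩ he
      have he' : thDat.uu e * thDat.w4 0 0 c d = thDat.uu e' * thDat.w4 0 0 c' d' := congrArg Subtype.val he
      have h3 := congrArg thDat.qT he'
      rw [qT_w4 h1, qT_w4 h1] at h3
      obtain ⟨rfl, rfl⟩ : c = c' ∧ d = d' := by simpa using h3
      rw [uu_injective h1 (mul_right_cancel he')])
    simp only [Nat.card_prod, Nat.card_zmod] at h2
    rw [hk] at h2 ⊢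
    have h3 : k ≤ 7 := by
      by_contra h4
      exact h8 ((pow_dvd_pow 3 (show 7 + 1 ≤ k by omega)).trans (hk ▸ card_dvd_of_le inf_le_right))
    have h4 : 7 ≤ k := (Nat.pow_le_pow_iff_right (a := 3) (by norm_num)).1 (le_trans (by norm_num) h2)
    rw [le_antisymm h3 h4]
  have hu : thDat.u1 ∈ V := uu_1 (D := thDat) ▸ hall _ (Or.inl rfl)
  have ho : orderOf thDat.u1 = 3 := by rw [← uu_1]; exact o_uu (by decide)
  refine noPt h ho fun a ha => ?_
  have hr2 : thDat.r2 ∈ centralizer (V : Set Th) := by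
    have := (hmem 0 0 1).2
    simpa [w4, uu_zero, ZMod.val_one] using this
  have hρ := hN.cent a ha _ hr2
  have hρ3 : (a * thDat.r2 * a⁻¹) ^ 3 = a * thDat.u1 * a⁻¹ := by rw [conj_pow, thDat.p_r2]
  obtain ⟨l, hl, hl'⟩ := sylow_conj (p := 3) ((zpowers_le_of_mem hρ)) inf_le_right
    (IsPGroup.of_card (n := 2) (by
      rw [Nat.card_zpowers]
      refine orderOf_eq_prime_pow (by rw [pow_one, hρ3]; exact NegS.conj_ne_one h1) ?_
      rw [pow_succ, pow_mul, pow_one, hρ3, conj_pow, thDat.c1]; simp)) hP h8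
  obtain ⟨hT, hC⟩ := hl' _ (mem_zpowers _)
  have h3 := cube_T h1 hT
  have hq := (fix_iff h1 hT (0, 0, 2, 1, 2)).1 (hC _ (hall _ (Or.inr (Or.inl rfl)))).symm
  rw [← conj_pow', hρ3, mul_assoc, hl _ (hN a ha _ hu), inv_mul_cancel_left] at h3
  rcases dec_cbL _ hq with e | e | e <;> rw [e] at h3
  · exact absurd (h3.trans thDat.uu_zero) (NegS.conj_ne_one h1)
  · exact Or.inl (h3.trans thDat.uu_1)
  · exact Or.inr (by rw [h3, uu_neg, uu_1])

/-- **large pure 3B subgroups of `Vs`** -/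
theorem noE {A V : Subgroup Th} (h : PA A) (hN : Nm A V) (h27 : 27 ≤ Nat.card V) (hB : PureB V) (hV : V ≤ thDat.Vs) :
    False := by
  haveI := finTh
  haveI : Fact (Nat.Prime 3) := ⟨Nat.prime_three⟩
  haveI : Fact (Nat.Prime 2) := ⟨Nat.prime_two⟩
  have h1 := th_u1_ne
  have hle : thDat.Vs ≤ centralizer (V : Set Th) := fun y hy v hv => Vs_comm (hV hv) hy
  obtain ⟨x, hx, x1, -⟩ := exists_other (V := V) (by omega) 1
  have hd := cent_dvd_B hx (hB x hx x1)
  have nd : ∀ {p : ℕ}, ¬ p ∣ 472392 → ¬ p ∣ Nat.card (centralizer (V : Set Th)) := fun hp e => hp (e.trans hd)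
  have h2 : ¬ 2 ^ (0 + 1) ∣ Nat.card (centralizer (V : Set Th)) := by
    intro h2
    obtain ⟨⟨s, hs⟩, ho⟩ := exists_prime_orderOf_dvd_card' (G := centralizer (V : Set Th)) 2 h2
    rw [Subgroup.orderOf_mk] at ho
    have := semi ho (fun v hv => (hs v hv).symm) hB
    omega
  have h6 : ¬ 3 ^ (5 + 1) ∣ Nat.card (centralizer (V : Set Th)) := by
    intro h6
    obtain ⟨K, hK, hKC, hc⟩ := exists_succ hle (card_Vs h1) h6
    have hKN : K ≤ NV := fun k hk => by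
      refine (inv_mem_iff (x := k)).1 (mem_normalizer_iff.2 fun y => ?_)
      rw [inv_inv]
      exact le_normalizer_of_succ hK (card_Vs h1) hc hk
    obtain ⟨l, hl, hl'⟩ := sylow_conj hKN N_le_NV (IsPGroup.of_card hc) (card_N h1) not_dvd_NV
    have hlV : ∀ y, y ∈ thDat.Vs ↔ l⁻¹ * y * l ∈ thDat.Vs := fun y => by
      have := mem_normalizer_iff.1 (inv_mem hl) y
      rwa [inv_inv] at this
    obtain ⟨y, hy, hyV⟩ : ∃ y ∈ K, y ∉ thDat.Vs := by
      by_contra hn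
      push Not at hn
      have := card_le_of_le (show K ≤ thDat.Vs from hn)
      rw [hc, card_Vs h1] at this
      norm_num at this
    have hVs : ∀ v ∈ cj V l, v ∈ thDat.Vs := fun v hv => by
      simpa [mul_assoc] using (hlV _).1 (hV (mem_cj.1 hv))
    have hU : cj V l ≤ thDat.U := fun v hv => mem_W_of_comm h1 (hVs v hv) (hl' y hy) (fun e => hyV ((hlV y).2 e)) (by
      have := hKC hy _ (mem_cj.1 hv)
      calc v * (l⁻¹ * y * l) = l⁻¹ * (l * v * l⁻¹ * y) * l := by group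
        _ = _ := by rw [this]; group)
    have := card_inf_U_le h1 (cj V l) PW fun e he => by
      have h3 : e.2.2.2 = 0 := (mem_Vs_iff h1 (m := (e.2.2.2, 0)) ⟨e, rfl, by rw [vab_zero, mul_one]⟩).1 (hVs _ he)
      refine mem_PW ?_
      by_cases e0 : e = 0
      · rw [e0]; rfl
      · exact dec_Q0 _ h3 (Qf_of_B (hB.cj l _ he fun e1 => e0 (uu_injective h1 (e1.trans thDat.uu_zero.symm))))
    rw [inf_eq_left.2 hU, card_cj, card_PW] at this
    exact absurd (h27.trans this) (by norm_num)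
  have hC := Nat.le_of_dvd (by norm_num)
    (dvd_of_parts (a := 0) (b := 5) (c := 0) (d := 0) (e := 0) (f := 0) (g := 0) (sub_dvd _) h2 h6
      (nd (by norm_num)) (nd (by norm_num)) (nd (by norm_num)) (nd (by norm_num)) (nd (by norm_num)))
  have e : thDat.Vs = centralizer (V : Set Th) := eq_of_le_of_card_ge hle (by rw [card_Vs h1]; exact hC)
  have ho : orderOf thDat.u3 = 3 := (isConj_order isC_u3).trans oC
  refine noPt h ho fun a ha => NV_u3 (mem_normalizer_fintype fun v hv => ?_)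
  have := hN.cent a ha v (e ▸ hv)
  rwa [← e] at this

end Cfsg.Agent.SP.NTh.Three
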